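import Cfsg.Agent.H60.CycInt.Radical
import Mathlib.GroupTheory.IsSubnormal

/-!
Groups in which the biprimary subgroups that are not subnormal have maximal normalisers: basic facts.
-/

set_option autoImplicit false
set_option linter.unusedSectionVars false
set_option linter.style.haveILetI false

namespace Cfsg.Agent.H61.MaxNorm

open Subgroup

variable {G : Type*} [Group G]

/-- the order has at most two prime divisors -/
def Biprimary (H : Subgroup G) : Prop :=
  ∃ p q : ℕ, p.Prime ∧ q.Prime ∧ ∀ r : ℕ, r.Prime → r ∣ Nat.card H → r = p ∨ r = q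

/-- biprimary subgroups that are not subnormal have maximal normalisers -/
def MaxNorm (G : Type*) [Group G] : Prop :=
  ∀ H : Subgroup G, ¬ H.IsSubnormal → Biprimary H → IsCoatom (normalizer (H : Set G))

theorem biprimary_of_pGroup {p : ℕ} (hp : p.Prime) [Finite G] {H : Subgroup G} (h : IsPGroup p H) :
    Biprimary H := by
  haveI : Fact p.Prime := ⟨hp⟩
  obtain ⟨n, hn⟩ := IsPGroup.iff_card.mp h
  refine ⟨p, p, hp, hp, fun r hr hd => Or.inl ?_⟩
  rw [hn] at hd
  exact (Nat.prime_dvd_prime_iff_eq hr hp).mp (hr.dvd_of_dvd_pow hd)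

theorem biprimary_sup [Finite G] {p q : ℕ} (hp : p.Prime) (hq : q.Prime) {A B : Subgroup G}
    (hA : IsPGroup p A) (hB : IsPGroup q B) (hn : B ≤ normalizer (A : Set G)) :
    Biprimary (A ⊔ B) := by
  haveI : Fact p.Prime := ⟨hp⟩
  haveI : Fact q.Prime := ⟨hq⟩
  obtain ⟨m, hm⟩ := IsPGroup.iff_card.mp hA
  obtain ⟨n, hn'⟩ := IsPGroup.iff_card.mp hB
  refine ⟨p, q, hp, hq, fun r hr hd => ?_⟩
  have h : Nat.card (A ⊔ B : Subgroup G) ∣ Nat.card A * Nat.card B := by
    have h1 := relIndex_mul_relIndex ⊥ A (A ⊔ B) bot_le le_sup_left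
    rw [relIndex_bot_left, relIndex_bot_left] at h1
    rw [← h1]
    refine mul_dvd_mul_left _ ?_
    rw [sup_comm]
    have := normal_subgroupOf_of_le_normalizer hn
    have := normal_subgroupOf_sup_of_le_normalizer hn
    have e : Nat.card (B ⧸ A.subgroupOf B) =
        Nat.card ((B ⊔ A : Subgroup G) ⧸ A.subgroupOf (B ⊔ A)) :=
      Nat.card_congr (QuotientGroup.quotientInfEquivProdNormalizerQuotient B A hn).toEquiv
    rw [relIndex, index, ← e]
    exact card_quotient_dvd_card _
  have hd' := hd.trans h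
  rw [hm, hn'] at hd'
  rcases hr.dvd_mul.mp hd' with h | h
  · exact Or.inl ((Nat.prime_dvd_prime_iff_eq hr hp).mp (hr.dvd_of_dvd_pow h))
  · exact Or.inr ((Nat.prime_dvd_prime_iff_eq hr hq).mp (hr.dvd_of_dvd_pow h))

theorem mem_normalizer_iff_conj {B : Subgroup G} {x : G} :
    x ∈ normalizer (B : Set G) ↔ B.map (MulAut.conj x).toMonoidHom = B := by
  rw [mem_normalizer_iff]
  constructor
  · intro h
    ext y
    rw [mem_map]
    constructor
    · rintro ⟨z, hz, rfl⟩
      exact (h z).mp hz
    · intro hy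
      exact ⟨x⁻¹ * y * x, (h _).mpr (by simpa [mul_assoc] using hy), by simp [mul_assoc]⟩
  · intro h y
    conv_rhs => rw [← h]
    rw [mem_map]
    exact ⟨fun hy => ⟨y, hy, rfl⟩, fun ⟨z, hz, e⟩ => by
      rw [← (MulAut.conj x).injective e]; exact hz⟩

theorem mem_normalizer_sup {B C : Subgroup G} {x : G} (hB : x ∈ normalizer (B : Set G))
    (hC : x ∈ normalizer (C : Set G)) : x ∈ normalizer ((B ⊔ C : Subgroup G) : Set G) := by
  rw [mem_normalizer_iff_conj] at hB hC ⊢
  rw [Subgroup.map_sup, hB, hC]

/-- A soluble subnormal subgroup lies in the soluble radical. -/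
theorem subnormal_le_rad [Finite G] {H : Subgroup G} (hs : H.IsSubnormal)
    (hsol : Group.IsSolvable H) : H ≤ Cfsg.solvableRadical G := by
  have key : ∀ K : Subgroup G, K.IsSubnormal → ∀ A : Subgroup G, A ≤ K →
      (A.subgroupOf K).Normal → Group.IsSolvable A → A ≤ Cfsg.solvableRadical G := by
    intro K hK
    induction hK with
    | top =>
      intro A _ hn hA
      refine H60.CycInt.le_rad ?_ hA
      rw [normal_subgroupOf_iff_le_normalizer le_top] at hn
      exact normalizer_eq_top_iff.mp (top_le_iff.mp hn)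
    | step K L hle hsn hn ih =>
      intro A hA hnA hsA
      have hAn := (normal_subgroupOf_iff_le_normalizer hA).mp hnA
      have hKn := (normal_subgroupOf_iff_le_normalizer hle).mp hn
      let S : Set (Subgroup G) := {B | B ≤ K ∧ K ≤ normalizer (B : Set G) ∧ Group.IsSolvable B}
      have hmem : A ∈ S := ⟨hA, hAn, hsA⟩
      have hcl := Cores.sSup_mem_of_closed (S := S)
        ⟨bot_le, by rw [normalizer_eq_top_iff.mpr inferInstance]; exact le_top, inferInstance⟩ (by
          rintro B ⟨hB, hBn, hBs⟩ C ⟨hC, hCn, hCs⟩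
          refine ⟨sup_le hB hC, fun x hx => mem_normalizer_sup (hBn hx) (hCn hx), ?_⟩
          exact H40.isSolvable_sup (hC.trans hBn) hBs hCs)
      refine (le_sSup hmem).trans ?_
      refine ih (sSup S) (hcl.1.trans hle) ?_ hcl.2.2
      rw [normal_subgroupOf_iff_le_normalizer (hcl.1.trans hle)]
      intro g hg
      have hinv : ∀ g ∈ L, ∀ B ∈ S, B.map (MulAut.conj g).toMonoidHom ∈ S := by
        rintro g hg B ⟨hB, hBn, hBs⟩
        have hKg : K.map (MulAut.conj g).toMonoidHom = K := by
          ext x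
          rw [mem_map]
          constructor
          · rintro ⟨y, hy, rfl⟩
            exact (mem_normalizer_iff.mp (hKn hg) y).mp hy
          · intro hx
            refine ⟨g⁻¹ * x * g, ?_, by simp [mul_assoc]⟩
            have := (mem_normalizer_iff.mp (hKn (inv_mem hg)) x).mp hx
            simpa using this
        refine ⟨hKg ▸ map_mono hB, ?_, ?_⟩
        · rw [← map_equiv_normalizer_eq B (MulAut.conj g)]
          exact hKg ▸ map_mono hBn
        · exact Group.isSolvable_of_surjective
            (f := (MulAut.conj g).toMonoidHom.subgroupMap B) (MonoidHom.subgroupMap_surjective _ _)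
      rw [mem_normalizer_iff]
      intro x
      constructor
      · intro hx
        exact le_sSup (hinv g hg _ hcl) ⟨x, hx, rfl⟩
      · intro hx
        have := le_sSup (hinv g⁻¹ (inv_mem hg) _ hcl) ⟨_, hx, rfl⟩
        simpa [mul_assoc] using this
  cases hs with
  | top => exact key ⊤ .top ⊤ le_rfl (normal_subgroupOf) hsol
  | step H K h1 h2 h3 => exact key K h2 H h1 h3 hsol

theorem isSolvable_sup_pGroup [Finite G] {p q : ℕ} [Fact p.Prime] [Fact q.Prime] {A B : Subgroup G}
    (hA : IsPGroup p A) (hB : IsPGroup q B) (hn : B ≤ normalizer (A : Set G)) :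
    Group.IsSolvable (A ⊔ B : Subgroup G) := by
  have h1 : Group.IsNilpotent A := hA.isNilpotent
  have h2 : Group.IsNilpotent B := hB.isNilpotent
  exact H40.isSolvable_sup hn inferInstance inferInstance

section Semisimple

variable [Finite G] (hG : MaxNorm G) (hR : Cfsg.solvableRadical G = ⊥)
include hG hR

theorem coatom_of_solvable {H : Subgroup G} (hne : H ≠ ⊥) (hsol : Group.IsSolvable H)
    (hb : Biprimary H) : IsCoatom (normalizer (H : Set G)) :=
  hG H (fun hs => hne (le_bot_iff.mp (hR ▸ subnormal_le_rad hs hsol))) hb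

theorem coatom_pGroup {p : ℕ} [Fact p.Prime] {H : Subgroup G} (hne : H ≠ ⊥) (h : IsPGroup p H) :
    IsCoatom (normalizer (H : Set G)) := by
  have := h.isNilpotent
  exact coatom_of_solvable hG hR hne inferInstance (biprimary_of_pGroup Fact.out h)

theorem coatom_sup {p q : ℕ} [Fact p.Prime] [Fact q.Prime] {A B : Subgroup G} (hne : A ≠ ⊥)
    (hA : IsPGroup p A) (hB : IsPGroup q B) (hn : B ≤ normalizer (A : Set G)) :
    IsCoatom (normalizer ((A ⊔ B : Subgroup G) : Set G)) :=
  coatom_of_solvable hG hR (fun h => hne (le_bot_iff.mp (h ▸ le_sup_left)))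
    (isSolvable_sup_pGroup hA hB hn) (biprimary_sup Fact.out Fact.out hA hB hn)

/-- An inclusion between the normalisers of nontrivial primary subgroups is an equality. -/
theorem normalizer_eq_of_le {p : ℕ} [Fact p.Prime] {H K : Subgroup G}
    (hH : IsCoatom (normalizer (H : Set G))) (hK : K ≠ ⊥) (hKp : IsPGroup p K)
    (h : normalizer (H : Set G) ≤ normalizer (K : Set G)) :
    normalizer (H : Set G) = normalizer (K : Set G) := by
  rcases eq_or_lt_of_le h with e | e
  · exact e
  · exact absurd (hH.2 _ e) (coatom_pGroup hG hR hK hKp).1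

end Semisimple

end Cfsg.Agent.H61.MaxNorm
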