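import Cfsg.Agent.H61.MaxNorm.Fpf
import Cfsg.Agent.H24.Nilp

/-!
The self-centralising elementary subgroups have order four.
-/

set_option autoImplicit false
set_option linter.unusedSectionVars false
set_option linter.style.haveILetI false

namespace Cfsg.Agent.H61.MaxNorm

open Subgroup

variable {G : Type*} [Group G]

theorem card_le_two_mul [Finite G] {A D : Subgroup G}
    (h : ∀ x ∈ A, x ∉ D → ∀ y ∈ A, y ∉ D → x * y ∈ D) :
    Nat.card A ≤ 2 * Nat.card (A ⊓ D : Subgroup G) := by
  by_cases hAD : A ≤ D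
  · rw [inf_eq_left.mpr hAD]; omega
  obtain ⟨x, hx, hxD⟩ := Set.not_subset.mp hAD
  have hsub : (A : Set G) ⊆ ((A ⊓ D : Subgroup G) : Set G) ∪
      (fun y => x⁻¹ * y) '' ((A ⊓ D : Subgroup G) : Set G) := by
    intro y hy
    by_cases hyD : y ∈ D
    · exact Or.inl ⟨hy, hyD⟩
    · exact Or.inr ⟨x * y, ⟨A.mul_mem hx hy, h x hx hxD y hy hyD⟩, by simp⟩
  have := (Set.ncard_le_ncard hsub (Set.toFinite _)).trans (Set.ncard_union_le _ _)
  rw [Set.ncard_image_of_injective _ (mul_right_injective x⁻¹)] at this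
  simp only [SetLike.coe_sort_coe, ← Nat.card_coe_set_eq] at this
  omega

theorem mul_inv_pow_mem {A : Subgroup G} {b g : G} (hb : b ∈ A) (hn : g ∈ normalizer (A : Set G)) :
    ∀ n : ℕ, (b * g) ^ n * (g ^ n)⁻¹ ∈ A := by
  intro n
  induction n with
  | zero => simp
  | succ n ih =>
    have h2 : g ^ n * b * (g ^ n)⁻¹ ∈ A := (mem_normalizer_iff.mp (pow_mem hn n) b).mp hb
    have := A.mul_mem ih h2
    convert this using 1
    rw [pow_succ (b * g), pow_succ g]
    group

/-- an involution normalising a group of prime order centralises or inverts it -/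
theorem inv_or_comm {q : ℕ} [Fact q.Prime] {x y : G} (hy : orderOf y = q) (hx : x * x = 1)
    (h : x ∈ normalizer ((zpowers y : Subgroup G) : Set G)) :
    x * y = y * x ∨ x * y * x⁻¹ = y⁻¹ := by
  have hm := (mem_normalizer_iff.mp h y).mp (mem_zpowers y)
  obtain ⟨i, hi⟩ := mem_zpowers_iff.mp hm
  have h2 : y ^ (i * i - 1) = 1 := by
    have e : y ^ (i * i) = y := by
      rw [zpow_mul, hi, conj_zpow, hi, show x * (x * y * x⁻¹) * x⁻¹ = (x * x) * y * (x * x)⁻¹ by group,
        hx]
      group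
    rw [zpow_sub, e, zpow_one, mul_inv_cancel]
  have hd : (q : ℤ) ∣ (i - 1) * (i + 1) := by
    have := orderOf_dvd_iff_zpow_eq_one.mpr h2
    rw [hy] at this
    convert this using 1; ring
  rcases (Nat.prime_iff_prime_int.mp Fact.out).dvd_or_dvd hd with h1 | h1
  · left
    have e : y ^ (i - 1) = 1 := orderOf_dvd_iff_zpow_eq_one.mp (by rw [hy]; exact h1)
    rw [zpow_sub, zpow_one, mul_inv_eq_one] at e
    rw [e] at hi
    calc x * y = x * y * x⁻¹ * x := by group
      _ = y * x := by rw [← hi]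
  · right
    have e : y ^ (i + 1) = 1 := orderOf_dvd_iff_zpow_eq_one.mp (by rw [hy]; exact h1)
    rw [zpow_add, zpow_one] at e
    rw [← hi, eq_inv_of_mul_eq_one_left e]

section Semisimple

variable [Finite G] (hG : MaxNorm G) (hR : Cfsg.solvableRadical G = ⊥)
variable {A : Subgroup G} (hA : Ess A)
include hG hR hA

/-- for a large `A` the centralisers of its involutions are 2-groups -/
theorem centralizer_pGroup (h8 : 8 ≤ Nat.card A) {a : G} (ha : a ∈ A) (ha1 : a ≠ 1) :
    IsPGroup 2 (centralizer ({a} : Set G)) := by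
  haveI : Fact (Nat.Prime 2) := ⟨Nat.prime_two⟩
  rw [IsPGroup.iff_card]
  refine ⟨(Nat.card (centralizer ({a} : Set G))).primeFactorsList.length,
    Nat.eq_prime_pow_of_unique_prime_dvd Nat.card_pos.ne' (fun {r} hr hd => ?_)⟩
  by_contra hr2
  haveI : Fact r.Prime := ⟨hr⟩
  obtain ⟨y0, hy0⟩ := exists_prime_orderOf_dvd_card' r hd
  -- the set of involutions with odd elements in their centralisers
  have key : ∀ a ∈ A, a ≠ 1 → ∀ y : G, a * y = y * a → orderOf y = r →
      ∀ a' ∈ A, a' ≠ 1 → ∀ y' : G, a' * y' = y' * a' → orderOf y' = r →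
      centralizer ({a} : Set G) = centralizer ({a'} : Set G) := by
    intro a ha ha1 y hay hy a' ha' ha1' y' hay' hy'
    let D : G → Subgroup G := fun y => centralizer ({y} : Set G)
    have hhalf : ∀ a ∈ A, a ≠ 1 → ∀ y : G, a * y = y * a → orderOf y = r → ∀ B : Subgroup G, B ≤ A →
        Nat.card B ≤ 2 * Nat.card (B ⊓ D y : Subgroup G) := by
      intro a ha ha1 y hay hy B hB
      have hy1 : y ≠ 1 := fun h => by
        rw [h, orderOf_one] at hy; exact hr.one_lt.ne hy
      have hN := share_involution hG hR hr2 (orderOf_eq_two (hA.sq a ha) ha1) (k := 1) (y := y)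
        (by rw [pow_one, ← hy, pow_orderOf_eq_one]) hy1 hay
      refine card_le_two_mul fun x hx hxD z hz hzD => ?_
      have hmem : ∀ x ∈ B, x ∈ normalizer ((zpowers y : Subgroup G) : Set G) := fun x hx => by
        rw [hN, mem_centralizer_singleton_iff]
        exact hA.commute (hB hx) ha
      have e1 := (inv_or_comm hy (hA.sq x (hB hx)) (hmem x hx)).resolve_left
        (fun h => hxD (mem_centralizer_singleton_iff.mpr h))
      have e2 := (inv_or_comm hy (hA.sq z (hB hz)) (hmem z hz)).resolve_left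
        (fun h => hzD (mem_centralizer_singleton_iff.mpr h))
      show x * z ∈ centralizer ({y} : Set G)
      rw [mem_centralizer_singleton_iff]
      calc x * z * y = x * (z * y * z⁻¹) * z := by group
        _ = x * y⁻¹ * z := by rw [e2]
        _ = (x * y * x⁻¹)⁻¹ * (x * z) := by group
        _ = y * (x * z) := by rw [e1, inv_inv]
    have h1 := hhalf a ha ha1 y hay hy A le_rfl
    have h2 := hhalf a' ha' ha1' y' hay' hy' (A ⊓ D y) inf_le_left
    obtain ⟨b, hb, hb1⟩ := (bot_or_exists_ne_one (A ⊓ D y ⊓ D y')).resolve_left fun h => by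
      rw [h, card_bot] at h2; omega
    have hb0 := hA.sq b hb.1.1
    have hcy : ∀ {z : G}, b ∈ D z → b * z = z * b := fun h => mem_centralizer_singleton_iff.mp h
    have e : ∀ {a : G}, a ∈ A → a ≠ 1 → ∀ y : G, a * y = y * a → orderOf y = r → b ∈ D y →
        centralizer ({a} : Set G) = centralizer ({b} : Set G) := by
      intro a ha ha1 y hay hy hby
      have hy1 : y ≠ 1 := fun h => by
        rw [h, orderOf_one] at hy; exact hr.one_lt.ne hy
      have hy' : y ^ r ^ 1 = 1 := by rw [pow_one, ← hy, pow_orderOf_eq_one]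
      rw [← share_involution hG hR hr2 (orderOf_eq_two (hA.sq a ha) ha1) hy' hy1 hay,
        ← share_involution hG hR hr2 (orderOf_eq_two hb0 hb1) hy' hy1 (hcy hby)]
    rw [e ha ha1 y hay hy hb.1.2, e ha' ha1' y' hay' hy' hb.2]
  obtain ⟨q, hq, hq2, g, hgM, hgo⟩ := hA.exists_odd
  have hay : a * (y0 : G) = y0 * a := (mem_centralizer_singleton_iff.mp y0.2).symm
  have hyo : orderOf (y0 : G) = r := by rw [orderOf_coe, hy0]
  have hco : g * a * g⁻¹ ∈ A := (mem_normalizer_iff.mp hgM a).mp ha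
  have hL := key a ha ha1 y0 hay hyo (g * a * g⁻¹) hco (fun h => ha1 (conj_eq_one_iff.mp h))
    (g * y0 * g⁻¹) (by
      calc g * a * g⁻¹ * (g * y0 * g⁻¹) = g * (a * y0) * g⁻¹ := by group
        _ = g * (y0 * a) * g⁻¹ := by rw [hay]
        _ = _ := by group)
    ((orderOf_injective (MulAut.conj g).toMonoidHom (MulAut.conj g).injective y0).trans hyo)
  obtain ⟨L, hLdef⟩ : ∃ L : Subgroup G, L = centralizer ({a} : Set G) := ⟨_, rfl⟩
  rw [← hLdef] at hL
  have hgN : g ∈ normalizer (L : Set G) := by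
    rw [mem_normalizer_iff_conj]
    conv_rhs => rw [hL]
    ext x
    rw [mem_map_equiv, hLdef, mem_centralizer_singleton_iff, mem_centralizer_singleton_iff,
      MulAut.conj_symm_apply]
    constructor
    · intro h
      calc x * (g * a * g⁻¹) = g * (g⁻¹ * x * g * a) * g⁻¹ := by group
        _ = g * (a * (g⁻¹ * x * g)) * g⁻¹ := by rw [h]
        _ = _ := by group
    · intro h
      calc g⁻¹ * x * g * a = g⁻¹ * (x * (g * a * g⁻¹)) * g := by group
        _ = g⁻¹ * (g * a * g⁻¹ * x) * g := by rw [h]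
        _ = _ := by group
  have hLc : IsCoatom L := by
    rw [hLdef, ← normalizer_zpowers_two (orderOf_eq_two (hA.sq a ha) ha1)]
    exact coatom_pGroup hG hR (by simpa using ha1) (zpowers_two (orderOf_eq_two (hA.sq a ha) ha1))
  haveI : Fact q.Prime := ⟨hq⟩
  have hg1 : g ≠ 1 := fun h => by rw [h, orderOf_one] at hgo; exact hq.one_lt.ne hgo
  by_cases htop : normalizer (L : Set G) = ⊤
  · haveI hLn : L.Normal := normalizer_eq_top_iff.mp htop
    have hy1 : (y0 : G) ≠ 1 := fun h => by rw [h, orderOf_one] at hyo; exact hr.one_lt.ne hyo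
    have hN := share_involution hG hR hr2 (orderOf_eq_two (hA.sq a ha) ha1) (k := 1) (y := (y0 : G))
      (by rw [pow_one, ← hyo, pow_orderOf_eq_one]) hy1 hay
    have hYL : zpowers (y0 : G) ≤ L := zpowers_le.mpr (hLdef ▸ y0.2)
    have hsn : (zpowers (y0 : G)).IsSubnormal := by
      refine IsSubnormal.step _ L hYL hLn.isSubnormal ?_
      rw [normal_subgroupOf_iff_le_normalizer hYL, hN, hLdef]
    have := subnormal_le_rad hsn inferInstance
    rw [hR, le_bot_iff, zpowers_eq_bot] at this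
    exact hy1 this
  · have hgL : g ∈ L := by
      rcases eq_or_lt_of_le (le_normalizer : L ≤ normalizer (L : Set G)) with e | e
      · rw [e]; exact hgN
      · exact absurd (hLc.2 _ e) htop
    exact ha1 (hA.fpf q hq hq2 g hgM hg1 1 (by rw [pow_one, ← hgo, pow_orderOf_eq_one]) a ha
      (mem_centralizer_singleton_iff.mp (hLdef ▸ hgL)).symm)

/-- a conjugate of `A` inside its normaliser different from `A` -/
theorem exists_second (h8 : 8 ≤ Nat.card A) :
    ∃ A' : Subgroup G, A' ≤ normalizer (A : Set G) ∧ Nat.card A' = Nat.card A ∧ A' ≠ A ∧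
      (∀ x ∈ A', x * x = 1) ∧ ∀ x ∈ A', ∀ y ∈ A', x * y = y * x := by
  haveI : Fact (Nat.Prime 2) := ⟨Nat.prime_two⟩
  set M := normalizer (A : Set G) with hM
  have hA2 : IsPGroup 2 A := fun x => ⟨1, Subtype.ext (by simp [pow_two, hA.sq x x.2])⟩
  obtain ⟨S0, hS0⟩ := (hA2.comap_of_injective M.subtype M.subtype_injective).exists_le_sylow
  set S : Subgroup G := (S0 : Subgroup M).map M.subtype with hS
  have hSM : S ≤ M := map_subtype_le _
  have hS2 : IsPGroup 2 S := S0.isPGroup'.map _
  have hAS : A ≤ S := fun x hx => ⟨⟨x, le_normalizer hx⟩, hS0 (show (⟨x, le_normalizer hx⟩ : M) ∈ A.comap M.subtype from hx), rfl⟩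
  -- a central involution
  have hAn : (A.subgroupOf S).Normal := (normal_subgroupOf_iff_le_normalizer hAS).mpr hSM
  have hAne : A.subgroupOf S ≠ ⊥ := by
    intro h
    rw [subgroupOf_eq_bot, disjoint_iff, inf_eq_left.mpr hAS] at h
    rw [h, card_bot] at h8; omega
  haveI : Group.IsNilpotent S := hS2.isNilpotent
  haveI : Nontrivial (A.subgroupOf S) := (nontrivial_iff_ne_bot _).mpr hAne
  obtain ⟨a0, ha0A, ha0c, ha0⟩ : ∃ a : S, a ∈ A.subgroupOf S ∧ a ∈ center S ∧ a ≠ 1 := by
    have := H24.inf_center_ne_bot (A.subgroupOf S) hAne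
    obtain ⟨a, ha, ha1⟩ := (bot_or_exists_ne_one _).resolve_left this
    exact ⟨a, ha.1, ha.2, ha1⟩
  have haA : (a0 : G) ∈ A := ha0A
  have ha1 : (a0 : G) ≠ 1 := fun h => ha0 (Subtype.ext h)
  set L := centralizer ({(a0 : G)} : Set G) with hL
  have hL2 : IsPGroup 2 L := centralizer_pGroup hG hR hA h8 haA ha1
  have hSL : S ≤ L := fun x hx => mem_centralizer_singleton_iff.mpr
    (congrArg Subtype.val (mem_center_iff.mp ha0c ⟨x, hx⟩))
  have hLc : IsCoatom L := by
    rw [hL, ← normalizer_zpowers_two (orderOf_eq_two (hA.sq _ haA) ha1)]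
    exact coatom_pGroup hG hR (by simpa using ha1) (zpowers_two (orderOf_eq_two (hA.sq _ haA) ha1))
  obtain ⟨q, hq, hq2, g, hgM, hgo⟩ := hA.exists_odd
  haveI : Fact q.Prime := ⟨hq⟩
  have hgnot : ∀ H : Subgroup G, IsPGroup 2 H → g ∉ H := by
    intro H hH hg
    obtain ⟨n, hn⟩ := hH ⟨g, hg⟩
    have hn' : g ^ 2 ^ n = 1 := by simpa using congrArg Subtype.val hn
    have := (Nat.coprime_primes hq Nat.prime_two).mpr hq2
    have h1 : orderOf g ∣ 2 ^ n := orderOf_dvd_of_pow_eq_one hn'
    rw [hgo] at h1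
    exact hq2 ((Nat.prime_dvd_prime_iff_eq hq Nat.prime_two).mp (hq.dvd_of_dvd_pow h1))
  have hne : S ≠ L := by
    intro e
    rcases eq_or_lt_of_le (e ▸ hSM : L ≤ M) with h | h
    · exact hgnot L hL2 (h.symm ▸ hgM)
    · exact hA.coatom.1 (hLc.2 _ h)
  haveI : Group.IsNilpotent L := hL2.isNilpotent
  have hlt : S.subgroupOf L < normalizer ((S.subgroupOf L : Subgroup L) : Set L) :=
    Group.normalizerCondition_of_isNilpotent _ (lt_top_iff_ne_top.mpr fun h =>
      hne (le_antisymm hSL (subgroupOf_eq_top.mp h)))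
  obtain ⟨x, hxN, hxS⟩ := SetLike.exists_of_lt hlt
  have hxS' : (x : G) ∈ normalizer (S : Set G) := by
    rw [mem_normalizer_iff]
    intro y
    constructor
    · intro hy
      have := (mem_normalizer_iff.mp hxN ⟨y, hSL hy⟩).mp hy
      exact this
    · intro hy
      have hyL : y ∈ L := by
        have := L.mul_mem (L.mul_mem (inv_mem x.2) (hSL hy)) x.2
        simpa [mul_assoc] using this
      exact (mem_normalizer_iff.mp hxN ⟨y, hyL⟩).mpr hy
  have hmap : A.map (MulAut.conj (x : G)).toMonoidHom ≤ S := by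
    conv_rhs => rw [← mem_normalizer_iff_conj.mp hxS']
    exact map_mono hAS
  refine ⟨A.map (MulAut.conj (x : G)).toMonoidHom, hmap.trans hSM, ?_, ?_, ?_, ?_⟩
  · exact (Nat.card_congr (equivMapOfInjective _ _ (MulAut.conj (x : G)).injective).toEquiv).symm
  · intro e
    have hxM : (x : G) ∈ M := mem_normalizer_iff_conj.mpr e
    -- a larger 2-subgroup of M
    have h2 : IsPGroup 2 (L.subgroupOf M) :=
      hL2.comap_of_injective M.subtype M.subtype_injective
    have hle : (S0 : Subgroup M) ≤ L.subgroupOf M := fun y hy => hSL ⟨y, hy, rfl⟩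
    have := S0.is_maximal' h2 hle
    have hmem : (⟨(x : G), hxM⟩ : M) ∈ (S0 : Subgroup M) := this ▸ x.2
    exact hxS (mem_map_of_mem M.subtype hmem)
  · rintro _ ⟨y, hy, rfl⟩
    rw [← map_mul, hA.sq y hy, map_one]
  · rintro _ ⟨y, hy, rfl⟩ _ ⟨z, hz, rfl⟩
    rw [← map_mul, ← map_mul, hA.commute hy hz]

theorem card_eq_four : Nat.card A = 4 := by
  classical
  haveI : Fact (Nat.Prime 2) := ⟨Nat.prime_two⟩
  set M := normalizer (A : Set G) with hM
  have hA2 : IsPGroup 2 A := fun x => ⟨1, Subtype.ext (by simp [pow_two, hA.sq x x.2])⟩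
  obtain ⟨q, hq, hq2, g, hgM, hgo⟩ := hA.exists_odd
  haveI : Fact q.Prime := ⟨hq⟩
  have hg1 : g ≠ 1 := fun h => by rw [h, orderOf_one] at hgo; exact hq.one_lt.ne hgo
  have hgq : g ^ q ^ 1 = 1 := by rw [pow_one, ← hgo, pow_orderOf_eq_one]
  have hfix : ∀ a ∈ A, a * g = g * a → a = 1 := hA.fpf q hq hq2 g hgM hg1 1 hgq
  obtain ⟨n, hn⟩ := IsPGroup.iff_card.mp hA2
  have hn1 : 2 ≤ n := by
    by_contra hlt
    by_cases hb : A = ⊥
    · have := hA.self g (fun a ha => by rw [hb, mem_bot] at ha; simp [ha])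
      rw [hb, mem_bot] at this
      exact hg1 this
    obtain ⟨a, ha, ha1⟩ := (bot_or_exists_ne_one A).resolve_left hb
    have hga : g * a * g⁻¹ = a := by
      by_contra hne
      have h3 : 3 ≤ Nat.card A := by
        have h1 : g * a * g⁻¹ ≠ 1 := fun h => ha1 (conj_eq_one_iff.mp h)
        rw [← SetLike.coe_sort_coe, Nat.card_coe_set_eq]
        calc 3 = ({1, a, g * a * g⁻¹} : Set G).ncard := by
              rw [Set.ncard_eq_three.mpr]
              exact ⟨1, a, g * a * g⁻¹, ha1.symm, h1.symm, fun h => hne h.symm, rfl⟩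
          _ ≤ _ := Set.ncard_le_ncard (by
              rintro z (rfl | rfl | rfl)
              · exact one_mem A
              · exact ha
              · exact (mem_normalizer_iff.mp hgM a).mp ha) (Set.toFinite _)
      have : 2 ^ n ≤ 2 := by
        calc 2 ^ n ≤ 2 ^ 1 := Nat.pow_le_pow_right two_pos (by omega)
          _ = 2 := rfl
      omega
    exact ha1 (hfix a ha (mul_inv_eq_iff_eq_mul.mp hga).symm)
  by_contra h4
  have hn3 : 3 ≤ n := by
    rcases eq_or_lt_of_le hn1 with h | h
    · exact absurd (by rw [hn, ← h]; norm_num) h4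
    · exact h
  have h8 : 8 ≤ Nat.card A := by
    rw [hn]; exact le_trans (by norm_num) (Nat.pow_le_pow_right two_pos hn3)
  obtain ⟨A', hA'M, hA'c, hA'ne, hA'sq, hA'comm⟩ := exists_second hG hR hA h8
  -- conjugation of g
  have hne0 : normalizer ((A ⊔ zpowers g : Subgroup G) : Set G) = M :=
    normalizer_eq_of_le hG hR (coatom_sup hG hR (fun h => by rw [h, card_bot] at h8; omega) hA2
        (zpowers_pGroup hgq) (zpowers_le.mpr hgM))
      (fun h => by rw [h, card_bot] at h8; omega) hA2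
      (normalizer_sup_le (Ne.symm hq2) hA2 (zpowers_pGroup hgq) (zpowers_le.mpr hgM))
  have hbr : ∀ b ∈ A, ∃ c ∈ A, c * (g * c * g⁻¹)⁻¹ = b := by
    let φ : A → A := fun c => ⟨c * (g * c * g⁻¹)⁻¹,
      A.mul_mem c.2 (inv_mem ((mem_normalizer_iff.mp hgM c).mp c.2))⟩
    have hinj : Function.Injective φ := by
      intro c d h
      have h' : (c : G) * (g * c * g⁻¹)⁻¹ = d * (g * d * g⁻¹)⁻¹ := congrArg Subtype.val h
      have hce := hfix ((d : G)⁻¹ * c) (A.mul_mem (inv_mem d.2) c.2) ?_
      · exact Subtype.ext (inv_mul_eq_one.mp hce).symm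
      · have e1 : (d : G)⁻¹ * c = (g * d * g⁻¹)⁻¹ * (g * c * g⁻¹) := by
          calc (d : G)⁻¹ * c = (d : G)⁻¹ * ((c : G) * (g * c * g⁻¹)⁻¹) * (g * c * g⁻¹) := by group
            _ = _ := by rw [h']; group
        calc (d : G)⁻¹ * c * g = (g * d * g⁻¹)⁻¹ * (g * c * g⁻¹) * g := by rw [← e1]
          _ = g * ((d : G)⁻¹ * c) := by group
    intro b hb
    obtain ⟨c, hc⟩ := (Finite.injective_iff_surjective.mp hinj) ⟨b, hb⟩
    exact ⟨c, c.2, congrArg Subtype.val hc⟩
  -- every involution outside A inverts g modulo A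
  have hinv : ∀ u ∈ M, u ∉ A → u * u = 1 → u * g * u⁻¹ * g ∈ A := by
    intro u huM huA hu
    have hmem : u * g * u⁻¹ ∈ A ⊔ zpowers g :=
      (mem_normalizer_iff.mp (show u ∈ normalizer ((A ⊔ zpowers g : Subgroup G) : Set G) from
        hne0.symm ▸ huM) g).mp (mem_sup_right (mem_zpowers g))
    rw [← SetLike.mem_coe, Subgroup.coe_mul_of_right_le_normalizer_left _ _ (zpowers_le.mpr hgM),
      Set.mem_mul] at hmem
    obtain ⟨b, hb, z, hz, hbz⟩ := hmem
    obtain ⟨i, rfl⟩ := (isOfFinOrder_of_finite g).mem_zpowers_iff_mem_range_orderOf.mp hz |>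
      Finset.mem_image.mp |> fun ⟨i, _, h⟩ => (⟨i, h.symm⟩ : ∃ i : ℕ, z = g ^ i)
    have hp := mul_inv_pow_mem hb (pow_mem hgM i) i
    rw [hbz, conj_pow] at hp
    -- conjugate back
    have hp' : u⁻¹ * (u * g ^ i * u⁻¹ * ((g ^ i) ^ i)⁻¹) * u ∈ A := by
      simpa using (mem_normalizer_iff.mp (inv_mem huM) _).mp hp
    have hu' : u⁻¹ = u := inv_eq_of_mul_eq_one_right hu
    have hgi : u * g ^ i * u⁻¹ = u⁻¹ * b⁻¹ * u * g := by
      rw [show g ^ i = b⁻¹ * (u * g * u⁻¹) by rw [← hbz]; group, hu']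
      calc u * (b⁻¹ * (u * g * u)) * u = u * b⁻¹ * u * g * (u * u) := by group
        _ = _ := by rw [hu, mul_one]
    have hub : u⁻¹ * b⁻¹ * u ∈ A := by
      simpa using (mem_normalizer_iff.mp (inv_mem huM) _).mp (inv_mem hb)
    have hgA : g * ((g ^ i) ^ i)⁻¹ ∈ A := by
      rw [hgi] at hp
      have := A.mul_mem (inv_mem hub) hp
      simpa [mul_assoc] using this
    have hone : g * ((g ^ i) ^ i)⁻¹ = 1 := by
      refine hfix _ hgA ?_
      exact ((Commute.refl g).mul_left ((Commute.refl g).pow_left i |>.pow_left i).inv_left).eq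
    have hdvd : (q : ℤ) ∣ ((i : ℤ) - 1) * ((i : ℤ) + 1) := by
      have e : g ^ (((i * i : ℕ) : ℤ) - 1) = 1 := by
        rw [zpow_sub, zpow_natCast, zpow_one, pow_mul]
        rw [mul_inv_eq_one] at hone ⊢
        exact hone.symm
      have := orderOf_dvd_iff_zpow_eq_one.mpr e
      rw [hgo] at this
      convert this using 1; push_cast; ring
    rcases (Nat.prime_iff_prime_int.mp hq).dvd_or_dvd hdvd with h1 | h1
    · exfalso
      have e : g ^ ((i : ℤ) - 1) = 1 := orderOf_dvd_iff_zpow_eq_one.mp (by rw [hgo]; exact h1)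
      rw [zpow_sub, zpow_natCast, zpow_one, mul_inv_eq_one] at e
      rw [e] at hbz
      -- g normalises the coset of u
      have hd : u⁻¹ * (g * u * g⁻¹) ∈ A := by
        have : u⁻¹ * b⁻¹ * u ∈ A := hub
        convert this using 1
        rw [show b = u * g * u⁻¹ * g⁻¹ by rw [← hbz]; group]
        group
      obtain ⟨c, hc, hce⟩ := hbr _ hd
      have hwg : u * c * g = g * (u * c) := by
        calc u * c * g = u * (c * (g * c * g⁻¹)⁻¹) * (g * c) := by group
          _ = _ := by rw [hce]; group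
      have hwA : u * c ∉ A := fun h => huA (by simpa using A.mul_mem h (inv_mem hc))
      have hw2 : u * c * (u * c) = 1 := by
        refine hfix _ ?_ ?_
        · have h := A.mul_mem ((mem_normalizer_iff.mp huM c).mp hc) hc
          rw [hu'] at h
          simpa [mul_assoc] using h
        · exact ((show Commute (u * c) g from hwg).mul_left hwg).eq
      have hw1 : u * c ≠ 1 := fun h => hwA (h ▸ one_mem A)
      let D : Subgroup G := A ⊓ centralizer ({u * c} : Set G)
      have hD : ∀ x ∈ D, x * (u * c) = u * c * x := fun x hx => mem_centralizer_singleton_iff.mp hx.2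
      have hgD : g ∈ normalizer (D : Set G) := by
        have hgC : g ∈ centralizer ({u * c} : Set G) := mem_centralizer_singleton_iff.mpr hwg.symm
        exact inf_normalizer_le_normalizer_inf (H := A) (K := centralizer ({u * c} : Set G))
          ⟨hgM, le_normalizer hgC⟩
      have hall := commute_in_centralizer hG hR hq2 (hA2.to_le inf_le_left)
        (orderOf_eq_two hw2 hw1) hgq hg1 hwg hgD hD
      have hwM : u * c ∈ M := M.mul_mem huM (le_normalizer hc)
      obtain ⟨a, ha, ha1⟩ : ∃ a ∈ A, a ≠ 1 ∧ a * (u * c) = u * c * a := by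
        by_cases hall' : ∀ a ∈ A, a * (u * c) = u * c * a
        · obtain ⟨a, ha, ha1⟩ := (bot_or_exists_ne_one A).resolve_left fun h => by
            rw [h, card_bot] at h8; omega
          exact ⟨a, ha, ha1, hall' a ha⟩
        · push Not at hall'
          obtain ⟨a, ha, hne⟩ := hall'
          have ha' : u * c * a * (u * c)⁻¹ ∈ A := (mem_normalizer_iff.mp hwM a).mp ha
          refine ⟨a * (u * c * a * (u * c)⁻¹), A.mul_mem ha ha', fun h => hne ?_, ?_⟩
          · have e' := eq_inv_of_mul_eq_one_right h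
            rw [inv_eq_of_mul_eq_one_right (hA.sq a ha)] at e'
            exact (mul_inv_eq_iff_eq_mul.mp e').symm
          · have hwi : (u * c)⁻¹ = u * c := inv_eq_of_mul_eq_one_right hw2
            calc a * (u * c * a * (u * c)⁻¹) * (u * c) = a * (u * c * a) := by group
              _ = (a * (u * c * a * (u * c)⁻¹)) * (u * c) := by group
              _ = (u * c * a * (u * c)⁻¹ * a) * (u * c) := by rw [hA.commute ha ha']
              _ = _ := by rw [hwi]; group
      exact ha1.1 (hfix a ha (hall a ⟨ha, mem_centralizer_singleton_iff.mpr ha1.2⟩))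
    · have e : g ^ ((i : ℤ) + 1) = 1 := orderOf_dvd_iff_zpow_eq_one.mp (by rw [hgo]; exact h1)
      rw [zpow_add, zpow_natCast, zpow_one] at e
      rw [← hbz, mul_assoc, e, mul_one]
      exact hb
  -- two involutions of A' outside A differ by an element of A
  have hhalf : Nat.card A' ≤ 2 * Nat.card (A' ⊓ A : Subgroup G) := by
    refine card_le_two_mul fun x hx hxA y hy hyA => ?_
    by_contra hxy
    have h1 := hinv _ (hA'M hx) hxA (hA'sq x hx)
    have h2 := hinv _ (hA'M hy) hyA (hA'sq y hy)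
    have h3 := hinv _ (hA'M (A'.mul_mem hx hy)) hxy (hA'sq _ (A'.mul_mem hx hy))
    have h2' : x * (y * g * y⁻¹ * g) * x⁻¹ ∈ A := (mem_normalizer_iff.mp (hA'M hx) _).mp h2
    have hgg : g * g ∈ A := by
      have h4 := A.mul_mem (A.mul_mem (inv_mem h2') h3) (inv_mem h1)
      -- left with the inverse of x g x⁻¹ squared
      have e : (x * (y * g * y⁻¹ * g) * x⁻¹)⁻¹ * (x * y * g * (x * y)⁻¹ * g) *
          (x * g * x⁻¹ * g)⁻¹ = x * (g * g)⁻¹ * x⁻¹ := by group
      rw [e] at h4
      have h5 := (mem_normalizer_iff.mp (hA'M hx) _).mpr h4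
      simpa using inv_mem h5
    have := hfix _ hgg ((Commute.refl g).mul_left (Commute.refl g)).eq
    have hd2 : orderOf g ∣ 2 := orderOf_dvd_of_pow_eq_one (by rw [pow_two]; exact this)
    rw [hgo] at hd2
    exact hq2 ((Nat.prime_dvd_prime_iff_eq hq Nat.prime_two).mp hd2)
  obtain ⟨u, huA', huA⟩ : ∃ u ∈ A', u ∉ A := by
    by_contra h
    push Not at h
    exact hA'ne (eq_of_le_of_card_ge h hA'c.ge)
  let B : Subgroup G := A' ⊓ A
  have hsmall : Nat.card B * Nat.card B ≤ Nat.card A := by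
    have hB : ∀ b ∈ B, u * b = b * u := fun b hb => hA'comm u huA' b hb.1
    have hBg : ∀ b ∈ B, g * b * g⁻¹ ∈ A := fun b hb => (mem_normalizer_iff.mp hgM b).mp hb.2
    rw [← Nat.card_prod]
    refine Nat.card_le_card_of_injective
      (fun p => (⟨(p.1 : G) * (g * p.2 * g⁻¹), A.mul_mem p.1.2.2 (hBg _ p.2.2)⟩ : A)) ?_
    rintro ⟨b, c⟩ ⟨b', c'⟩ h
    have h' : (b : G) * (g * c * g⁻¹) = b' * (g * c' * g⁻¹) := congrArg Subtype.val h
    have he : (b' : G)⁻¹ * b = g * ((c' : G) * (c : G)⁻¹) * g⁻¹ := by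
      calc (b' : G)⁻¹ * b = (b' : G)⁻¹ * ((b : G) * (g * c * g⁻¹)) * (g * c * g⁻¹)⁻¹ := by group
        _ = _ := by rw [h']; group
    set x : G := (b' : G)⁻¹ * b with hx
    have hxB : x ∈ B := mul_mem (inv_mem b'.2) b.2
    set d : G := (c' : G) * (c : G)⁻¹ with hd
    have hdB : d ∈ B := mul_mem c'.2 (inv_mem c.2)
    -- both u and the conjugate of u fix x
    have hw := hinv u (hA'M huA') huA (hA'sq u huA')
    set a0 := u * g * u⁻¹ * g with ha0
    have hug : u * g * u⁻¹ = a0 * g⁻¹ := by rw [ha0]; group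
    have hxu : u * x * u⁻¹ = x := by rw [hB x hxB, mul_inv_cancel_right]
    have hx1 : x = 1 := by
      have hdd : u * d * u⁻¹ = d := by rw [hB d hdB, mul_inv_cancel_right]
      have e1 : x = a0 * g⁻¹ * d * g * a0⁻¹ := by
        calc x = u * x * u⁻¹ := hxu.symm
          _ = (u * g * u⁻¹) * (u * d * u⁻¹) * (u * g * u⁻¹)⁻¹ := by rw [he]; group
          _ = _ := by rw [hdd, hug]; group
      have hin : g⁻¹ * d * g ∈ A := by
        simpa using (mem_normalizer_iff.mp (inv_mem hgM) d).mp hdB.2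
      have e2 : x = g⁻¹ * d * g := by
        calc x = a0 * (g⁻¹ * d * g) * a0⁻¹ := by rw [e1]; group
          _ = g⁻¹ * d * g := by rw [hA.commute hw hin, mul_inv_cancel_right]
      have hfix2 : d * (g * g) = g * g * d := by
        have e3 : g * d * g⁻¹ = g⁻¹ * d * g := by rw [← e2, he]
        calc d * (g * g) = g * (g⁻¹ * d * g) * g := by group
          _ = g * (g * d * g⁻¹) * g := by rw [e3]
          _ = _ := by group
      have hgg1 : g * g ≠ 1 := fun h => hq2 (by
        have hd2 : orderOf g ∣ 2 := orderOf_dvd_of_pow_eq_one (by rw [pow_two]; exact h)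
        rw [hgo] at hd2
        exact (Nat.prime_dvd_prime_iff_eq hq Nat.prime_two).mp hd2)
      have hd1 : d = 1 := hA.fpf q hq hq2 _ (M.mul_mem hgM hgM) hgg1 1
        (by rw [← pow_two, ← pow_mul, mul_comm, pow_mul, hgq, one_pow]) d hdB.2 hfix2
      rw [he, hd1]; group
    have hd1 : d = 1 := by
      rw [hx1] at he
      have := congrArg (fun z => g⁻¹ * z * g) he
      simpa [mul_assoc] using this.symm
    exact Prod.ext (Subtype.ext (inv_mul_eq_one.mp hx1).symm) (Subtype.ext (mul_inv_eq_one.mp hd1).symm)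
  rw [hA'c] at hhalf
  have hle : Nat.card A ≤ 4 := by
    by_contra hlt
    have : Nat.card A * Nat.card A ≤ 4 * Nat.card A :=
      calc Nat.card A * Nat.card A ≤ (2 * Nat.card B) * (2 * Nat.card B) := Nat.mul_le_mul hhalf hhalf
        _ = 4 * (Nat.card B * Nat.card B) := by ring
        _ ≤ _ := Nat.mul_le_mul_left _ hsmall
    have := Nat.le_of_mul_le_mul_right this (by omega)
    omega
  omega

end Semisimple

end Cfsg.Agent.H61.MaxNorm
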