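import Cfsg.Agent.H61.MaxNorm.Share
import Mathlib.GroupTheory.PGroup

/-!
A 2-subgroup with an automiser that is not a 2-group gives a self-centralising elementary subgroup
on which the elements of odd order of its normaliser act without fixed points.
-/

set_option autoImplicit false
set_option linter.unusedSectionVars false
set_option linter.style.haveILetI false

namespace Cfsg.Agent.H61.MaxNorm

open Subgroup

variable {G : Type*} [Group G]

/-- the elements of the centre of square one -/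
def omegaZ (Q : Subgroup G) : Subgroup G where
  carrier := {x | x ∈ Q ∧ (∀ y ∈ Q, x * y = y * x) ∧ x * x = 1}
  mul_mem' {a b} ha hb := by
    refine ⟨Q.mul_mem ha.1 hb.1, fun y hy => ?_, ?_⟩
    · rw [mul_assoc, hb.2.1 y hy, ← mul_assoc, ha.2.1 y hy, mul_assoc]
    · rw [show a * b * (a * b) = a * (b * a) * b by group, ← ha.2.1 b hb.1,
        show a * (a * b) * b = (a * a) * (b * b) by group, ha.2.2, hb.2.2, one_mul]
  one_mem' := ⟨Q.one_mem, fun y _ => by simp, one_mul 1⟩
  inv_mem' {a} ha := by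
    rw [show a⁻¹ = a from inv_eq_of_mul_eq_one_right ha.2.2]
    exact ha

theorem omegaZ_le (Q : Subgroup G) : omegaZ Q ≤ Q := fun _ h => h.1

theorem omegaZ_normalizer (Q : Subgroup G) :
    normalizer (Q : Set G) ≤ normalizer ((omegaZ Q : Subgroup G) : Set G) := by
  intro g hg
  have key : ∀ g ∈ normalizer (Q : Set G), ∀ x ∈ omegaZ Q, g * x * g⁻¹ ∈ omegaZ Q := by
    intro g hg x hx
    refine ⟨(mem_normalizer_iff.mp hg x).mp hx.1, fun y hy => ?_, ?_⟩
    · have hy' : g⁻¹ * y * g ∈ Q := by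
        simpa using (mem_normalizer_iff.mp (inv_mem hg) y).mp hy
      have e : x * (g⁻¹ * y * g) = g⁻¹ * y * g * x := hx.2.1 _ hy'
      calc g * x * g⁻¹ * y = g * (x * (g⁻¹ * y * g)) * g⁻¹ := by group
        _ = g * (g⁻¹ * y * g * x) * g⁻¹ := by rw [e]
        _ = _ := by group
    · rw [show g * x * g⁻¹ * (g * x * g⁻¹) = g * (x * x) * g⁻¹ by group, hx.2.2]
      group
  rw [mem_normalizer_iff]
  intro x
  refine ⟨key g hg x, fun h => ?_⟩
  have := key g⁻¹ (inv_mem hg) _ h
  simpa [mul_assoc] using this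

theorem omegaZ_ne_bot [Finite G] {Q : Subgroup G} (hQ : IsPGroup 2 Q) (hne : Q ≠ ⊥) :
    omegaZ Q ≠ ⊥ := by
  haveI : Fact (Nat.Prime 2) := ⟨Nat.prime_two⟩
  haveI : Nontrivial Q := (nontrivial_iff_ne_bot Q).mpr hne
  have hc := hQ.center_nontrivial
  obtain ⟨c, hc2⟩ := exists_prime_orderOf_dvd_card' 2 (show 2 ∣ Nat.card (center Q) by
    obtain ⟨n, e⟩ := IsPGroup.iff_card.mp (hQ.to_subgroup (center Q))
    rw [e]
    refine dvd_pow_self 2 ?_
    rintro rfl
    rw [pow_zero] at e
    exact (ne_of_gt (Finite.one_lt_card (α := center Q))) e)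
  intro h
  have hcmem : ((c : Q) : G) ∈ omegaZ Q := by
    refine ⟨(c : Q).2, fun y hy => ?_, ?_⟩
    · exact congrArg Subtype.val (mem_center_iff.mp c.2 ⟨y, hy⟩).symm
    · have := pow_orderOf_eq_one c
      rw [hc2, pow_two] at this
      exact congrArg (fun z : center Q => ((z : Q) : G)) this
  rw [h, mem_bot] at hcmem
  have : c = 1 := Subtype.ext (Subtype.ext hcmem)
  rw [this, orderOf_one] at hc2
  norm_num at hc2

theorem omegaZ_pGroup (Q : Subgroup G) : IsPGroup 2 (omegaZ Q) := fun x =>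
  ⟨1, Subtype.ext (by rw [pow_one, SubmonoidClass.coe_pow, pow_two]; exact x.2.2.2)⟩

/-- a self-centralising elementary 2-subgroup whose normaliser acts without fixed points -/
structure Ess (A : Subgroup G) : Prop where
  sq : ∀ a ∈ A, a * a = 1
  self : ∀ x, (∀ a ∈ A, x * a = a * x) → x ∈ A
  fpf : ∀ (q : ℕ), q.Prime → q ≠ 2 → ∀ g ∈ normalizer (A : Set G), g ≠ 1 → ∀ k : ℕ,
    g ^ q ^ k = 1 → ∀ a ∈ A, a * g = g * a → a = 1
  coatom : IsCoatom (normalizer (A : Set G))
  exists_odd : ∃ q : ℕ, q.Prime ∧ q ≠ 2 ∧ ∃ g ∈ normalizer (A : Set G), orderOf g = q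

theorem Ess.commute {A : Subgroup G} (h : Ess A) {a b : G} (ha : a ∈ A) (hb : b ∈ A) :
    a * b = b * a := by
  calc a * b = a⁻¹ * b⁻¹ := by
        rw [inv_eq_of_mul_eq_one_right (h.sq a ha), inv_eq_of_mul_eq_one_right (h.sq b hb)]
    _ = (b * a)⁻¹ := (mul_inv_rev b a).symm
    _ = b * a := inv_eq_of_mul_eq_one_right (h.sq _ (A.mul_mem hb ha))

theorem orderOf_eq_two {a : G} (h : a * a = 1) (h1 : a ≠ 1) : orderOf a = 2 :=
  orderOf_eq_prime (by rw [pow_two, h]) h1

section Semisimple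

variable [Finite G] (hG : MaxNorm G) (hR : Cfsg.solvableRadical G = ⊥)
include hG hR

/-- a 2-subgroup of a centraliser normalised by an odd element of it is centralised by it -/
theorem commute_in_centralizer {q : ℕ} [Fact q.Prime] (hq : q ≠ 2) {a g : G} {Q : Subgroup G}
    (hQ : IsPGroup 2 Q) (ha : orderOf a = 2) {k : ℕ} (hg : g ^ q ^ k = 1) (hg1 : g ≠ 1)
    (hag : a * g = g * a) (hgQ : g ∈ normalizer (Q : Set G))
    (hQa : ∀ x ∈ Q, x * a = a * x) : ∀ x ∈ Q, x * g = g * x := by
  intro x hx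
  refine commute_of_normalizes hq hQ hg hx hgQ ?_
  rw [share_involution hG hR hq ha hg hg1 hag, mem_centralizer_singleton_iff]
  exact hQa x hx

theorem exists_ess {Q : Subgroup G} (hQ : IsPGroup 2 Q) {q : ℕ} [Fact q.Prime] (hq : q ≠ 2)
    {g : G} {k : ℕ} (hgk : g ^ q ^ k = 1) (hgN : g ∈ normalizer (Q : Set G))
    (hgc : ¬ ∀ x ∈ Q, x * g = g * x) :
    Ess (omegaZ Q) ∧ g ∈ normalizer ((omegaZ Q : Subgroup G) : Set G) := by
  haveI : Fact (Nat.Prime 2) := ⟨Nat.prime_two⟩
  set A := omegaZ Q with hA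
  set M := normalizer (A : Set G) with hM
  have hg1 : g ≠ 1 := fun h => hgc fun x _ => by simp [h]
  have hQne : Q ≠ ⊥ := fun h => hgc fun x hx => by
    rw [h, mem_bot] at hx; simp [hx]
  have hAne : A ≠ ⊥ := omegaZ_ne_bot hQ hQne
  have hA2 : IsPGroup 2 A := omegaZ_pGroup Q
  have hQM : Q ≤ M := le_normalizer.trans (omegaZ_normalizer Q)
  have hgM : g ∈ M := omegaZ_normalizer Q hgN
  have hsq : ∀ a ∈ A, a * a = 1 := fun a ha => ha.2.2
  have hQA : ∀ a ∈ A, ∀ x ∈ Q, x * a = a * x := fun a ha x hx => (ha.2.1 x hx).symm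
  have hnot : ∀ a ∈ A, a ≠ 1 → a * g ≠ g * a := fun a ha ha1 h =>
    hgc (commute_in_centralizer hG hR hq hQ (orderOf_eq_two (hsq a ha) ha1) hgk hg1 h hgN (hQA a ha))
  have hfpf : ∀ (r : ℕ), r.Prime → r ≠ 2 → ∀ h ∈ M, h ≠ 1 → ∀ j : ℕ, h ^ r ^ j = 1 →
      ∀ a ∈ A, a * h = h * a → a = 1 := by
    intro r hr hr2 h hh hh1 j hj a ha hc
    by_contra ha1
    haveI : Fact r.Prime := ⟨hr⟩
    have hall := commute_in_centralizer hG hR hr2 hA2 (orderOf_eq_two (hsq a ha) ha1) hj hh1 hc hh
      (fun x hx => hQA a ha x hx.1)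
    have e1 : M = normalizer ((zpowers h : Subgroup G) : Set G) :=
      share hG hR (Ne.symm hr2) hA2 (zpowers_pGroup hj) hAne (by simpa using hh1) (by
        intro x hx y hy
        obtain ⟨i, rfl⟩ := mem_zpowers_iff.mp hy
        exact ((show Commute x h from hall x hx).zpow_right i).eq)
    rw [share_involution hG hR hr2 (orderOf_eq_two (hsq a ha) ha1) hj hh1 hc] at e1
    rw [e1, mem_centralizer_singleton_iff] at hgM
    exact hnot a ha ha1 hgM.symm
  -- an element of prime order
  obtain ⟨g0, hg0⟩ := exists_prime_orderOf_dvd_card' (G := zpowers g) q (by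
    obtain ⟨n, hn⟩ := IsPGroup.iff_card.mp (zpowers_pGroup (p := q) hgk)
    rw [hn]
    refine dvd_pow_self q ?_
    rintro rfl
    rw [pow_zero, Nat.card_zpowers, orderOf_eq_one_iff] at hn
    exact hg1 hn)
  have hg0o : orderOf (g0 : G) = q := by rw [orderOf_coe, hg0]
  have hg0M : (g0 : G) ∈ M := zpowers_le.mpr hgM g0.2
  have hg0ne : (g0 : G) ≠ 1 := fun h => by
    rw [h, orderOf_one] at hg0o
    exact (Fact.out : q.Prime).one_lt.ne hg0o
  have hg0q : (g0 : G) ^ q ^ 1 = 1 := by rw [pow_one, ← hg0o, pow_orderOf_eq_one]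
  -- the centraliser
  have hself : ∀ x, (∀ a ∈ A, x * a = a * x) → x ∈ A := by
    set C := centralizer (A : Set G) with hC
    have hCM : C ≤ M := centralizer_le_normalizer _
    have hMC : M ≤ normalizer (C : Set G) := by
      intro m hm
      rw [mem_normalizer_iff]
      intro x
      simp only [hC, mem_centralizer_iff, SetLike.mem_coe]
      constructor
      · intro hx a ha
        have := hx _ ((mem_normalizer_iff.mp (inv_mem hm) a).mp ha)
        simp only [inv_inv] at this
        calc a * (m * x * m⁻¹) = m * (m⁻¹ * a * m * x) * m⁻¹ := by group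
          _ = m * (x * (m⁻¹ * a * m)) * m⁻¹ := by rw [this]
          _ = _ := by group
      · intro hx a ha
        have := hx _ ((mem_normalizer_iff.mp hm a).mp ha)
        calc a * x = m⁻¹ * (m * a * m⁻¹ * (m * x * m⁻¹)) * m := by group
          _ = m⁻¹ * (m * x * m⁻¹ * (m * a * m⁻¹)) * m := by rw [this]
          _ = x * a := by group
    have hC2 : IsPGroup 2 C := by
      rw [IsPGroup.iff_card]
      have : ∀ r : ℕ, r.Prime → r ∣ Nat.card C → r = 2 := by
        intro r hr hd
        by_contra hr2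
        haveI : Fact r.Prime := ⟨hr⟩
        obtain ⟨c, hc⟩ := exists_prime_orderOf_dvd_card' r hd
        have hco : orderOf (c : G) = r := by rw [orderOf_coe, hc]
        obtain ⟨a, ha, ha1⟩ := (bot_or_exists_ne_one A).resolve_left hAne
        exact ha1 (hfpf r hr hr2 c (hCM c.2) (fun h => by
          rw [h, orderOf_one] at hco
          exact hr.one_lt.ne hco) 1 (by rw [pow_one, ← hco, pow_orderOf_eq_one]) a ha
          (mem_centralizer_iff.mp c.2 a ha))
      exact ⟨(Nat.card C).primeFactorsList.length, Nat.eq_prime_pow_of_unique_prime_dvd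
        Nat.card_pos.ne' (fun {d} hd hdd => this d hd hdd)⟩
    intro x hx
    have hxC : x ∈ C := mem_centralizer_iff.mpr fun a ha => (hx a ha).symm
    have hne0 : normalizer ((A ⊔ zpowers (g0 : G) : Subgroup G) : Set G) = M :=
      normalizer_eq_of_le hG hR (coatom_sup hG hR hAne hA2 (zpowers_pGroup hg0q)
        (zpowers_le.mpr hg0M)) hAne hA2
        (normalizer_sup_le (Ne.symm hq) hA2 (zpowers_pGroup hg0q) (zpowers_le.mpr hg0M))
    have hd : ∀ y ∈ C, y⁻¹ * ((g0 : G) * y * (g0 : G)⁻¹) ∈ A := by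
      intro y hy
      have hg0C : (g0 : G) * y * (g0 : G)⁻¹ ∈ C :=
        (mem_normalizer_iff.mp (hMC hg0M) y).mp hy
      have hmem : y⁻¹ * ((g0 : G) * y * (g0 : G)⁻¹) ∈ A ⊔ zpowers (g0 : G) := by
        have hyn : y⁻¹ ∈ normalizer ((A ⊔ zpowers (g0 : G) : Subgroup G) : Set G) :=
          hne0.symm ▸ inv_mem (hCM hy)
        have h1 : y⁻¹ * (g0 : G) * y⁻¹⁻¹ ∈ A ⊔ zpowers (g0 : G) :=
          (mem_normalizer_iff.mp hyn _).mp (mem_sup_right (mem_zpowers _))
        rw [inv_inv] at h1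
        have := mul_mem h1 (mem_sup_right (S := A) (inv_mem (mem_zpowers (g0 : G))))
        simpa [mul_assoc] using this
      obtain ⟨j, hj⟩ := hC2 ⟨_, mul_mem (inv_mem hy) hg0C⟩
      exact mem_of_pElement (Ne.symm hq) (zpowers_pGroup hg0q) (zpowers_le.mpr hg0M) hmem (k := j)
        (by simpa using congrArg Subtype.val hj)
    let K : Subgroup G := zpowers (g0 : G)
    let Cst : Set G := {y | x⁻¹ * y ∈ A}
    have hstab : ∀ y ∈ Cst, (g0 : G) * y * (g0 : G)⁻¹ ∈ Cst := by
      intro y hy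
      have hyC : y ∈ C := by
        have := mul_mem hxC (show x⁻¹ * y ∈ C from
          mem_centralizer_iff.mpr fun a ha => (hQA _ hy a (omegaZ_le Q ha)))
        simpa using this
      have := A.mul_mem hy (hd y hyC)
      simpa [Cst, mul_assoc] using this
    -- a fixed point in the coset
    let f : Equiv.Perm Cst := Equiv.ofBijective
      (fun y => ⟨(g0 : G) * y * (g0 : G)⁻¹, hstab _ y.2⟩)
      ((Finite.injective_iff_bijective).mp fun y z h => by
        simpa [Subtype.ext_iff] using h)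
    have hf : ∀ (n : ℕ) (y : Cst), (((f ^ n) y : Cst) : G) = (g0 : G) ^ n * y * ((g0 : G) ^ n)⁻¹ := by
      intro n
      induction n with
      | zero => intro y; simp
      | succ n ih =>
        intro y
        rw [pow_succ', Equiv.Perm.mul_apply]
        show (g0 : G) * _ * (g0 : G)⁻¹ = _
        rw [ih, pow_succ']
        group
    have hfq : f ^ q = 1 := Equiv.ext fun y => Subtype.ext (by
      rw [hf, ← pow_one q, hg0q]; simp)
    have hcard : ¬ q ∣ Nat.card Cst := by
      have e : Nat.card Cst = Nat.card A := Nat.card_congr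
        { toFun := fun y => ⟨x⁻¹ * y, y.2⟩
          invFun := fun a => ⟨x * a, by simp [Cst]⟩
          left_inv := fun y => by simp
          right_inv := fun a => by simp }
      obtain ⟨n, hn⟩ := IsPGroup.iff_card.mp hA2
      rw [e, hn]
      intro hd'
      exact hq ((Nat.prime_dvd_prime_iff_eq Fact.out Nat.prime_two).mp
        ((Fact.out : q.Prime).dvd_of_dvd_pow hd'))
    classical
    haveI : Fintype Cst := Fintype.ofFinite _
    obtain ⟨c, hc⟩ := Equiv.Perm.exists_fixed_point_of_prime (n := 1) (p := q)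
      (by rwa [← Nat.card_eq_fintype_card]) (σ := f) (by rwa [pow_one])
    have hcg : (c : G) * g0 = g0 * c :=
      (mul_inv_eq_iff_eq_mul.mp (congrArg Subtype.val hc : (g0 : G) * c * (g0 : G)⁻¹ = c)).symm
    have hcC : (c : G) ∈ C := by
      have := mul_mem hxC (show x⁻¹ * (c : G) ∈ C from
        mem_centralizer_iff.mpr fun a ha => (hQA _ c.2 a (omegaZ_le Q ha)))
      simpa using this
    by_cases hc1 : (c : G) = 1
    · have := c.2
      simp only [Cst, Set.mem_setOf_eq, hc1, mul_one, inv_mem_iff] at this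
      exact this
    exfalso
    obtain ⟨d, hd2⟩ := exists_prime_orderOf_dvd_card' (G := zpowers (c : G)) 2 (by
      obtain ⟨n, hn⟩ := IsPGroup.iff_card.mp (hC2.to_le (zpowers_le.mpr hcC))
      rw [hn]
      refine dvd_pow_self 2 ?_
      rintro rfl
      rw [pow_zero, Nat.card_zpowers, orderOf_eq_one_iff] at hn
      exact hc1 hn)
    obtain ⟨i, hi⟩ := mem_zpowers_iff.mp d.2
    have hdo : orderOf (d : G) = 2 := by rw [orderOf_coe, hd2]
    have hdg : (d : G) * g0 = g0 * d := by rw [← hi]; exact ((show Commute (c : G) g0 from hcg).zpow_left i).eq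
    have hdC : (d : G) ∈ C := zpowers_le.mpr hcC d.2
    have hall := commute_in_centralizer hG hR hq hA2 hdo hg0q hg0ne hdg hg0M
      (fun a ha => mem_centralizer_iff.mp hdC a ha)
    obtain ⟨a, ha, ha1⟩ := (bot_or_exists_ne_one A).resolve_left hAne
    exact ha1 (hfpf q Fact.out hq _ hg0M hg0ne 1 hg0q a ha (hall a ha))
  exact ⟨⟨hsq, hself, hfpf, coatom_pGroup hG hR hAne hA2,
    ⟨q, Fact.out, hq, g0, hg0M, hg0o⟩⟩, hgM⟩

end Semisimple

end Cfsg.Agent.H61.MaxNorm
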