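import Cfsg.Agent.H61.MaxNorm.Simple
import Cfsg.Agent.PGroups.CyclicMaximal
import Cfsg.Prelude.Def_CaseTheorems

/-!
A perfect group in which the odd prime power elements centralising an involution generate subgroups
normal in that centraliser has no quasidihedral Sylow 2-subgroup.
-/

set_option autoImplicit false
set_option linter.unusedSectionVars false
set_option linter.style.haveILetI false

namespace Cfsg.Agent.H61.MaxNorm

open Subgroup
open scoped commutatorElement

universe u

/-- Fusion in a Sylow 2-subgroup of a group with normal odd primary cyclic subgroups is inner. -/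
theorem fusion_of_normal_cyclic {C : Type u} [Group C] [Finite C] (P : Sylow 2 C)
    (hcyc : ∀ q : ℕ, q.Prime → q ≠ 2 → ∀ (y : C) (k : ℕ), y ^ q ^ k = 1 → (zpowers y).Normal)
    {x g : C} (hx : x ∈ (P : Subgroup C)) (hgx : g * x * g⁻¹ ∈ (P : Subgroup C)) :
    ∃ s ∈ (P : Subgroup C), s * x * s⁻¹ = g * x * g⁻¹ := by
  haveI : Fact (Nat.Prime 2) := ⟨Nat.prime_two⟩
  obtain ⟨N, hNn, hNP⟩ := (S0071.result P).mpr fun Q hQ g hg hcop => by
    by_contra hgc
    obtain ⟨q, k, hq, hqd, h, hh, hhc, hhk⟩ := exists_primePow_not_mem _ hgc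
    haveI : Fact q.Prime := ⟨hq⟩
    have hq2 : q ≠ 2 := by
      rintro rfl
      have := Nat.eq_one_of_dvd_coprimes hcop hqd dvd_rfl
      norm_num at this
    haveI := hcyc q hq hq2 h k hhk
    refine hhc (mem_centralizer_iff.mpr fun a ha => ?_)
    exact commute_of_normalizes hq2 (P.isPGroup'.to_le hQ) hhk ha ((zpowers_le.mpr hg) hh)
      (by rw [normalizer_eq_top_iff.mpr inferInstance]; trivial)
  haveI := hNn
  obtain ⟨n, hn, s, hs, rfl⟩ := mem_sup_of_normal_left.mp
    (show g ∈ N ⊔ (P : Subgroup C) by rw [hNP.sup_eq_top]; trivial)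
  refine ⟨s, hs, ?_⟩
  set a := s * x * s⁻¹ with ha
  have haP : a ∈ (P : Subgroup C) := mul_mem (mul_mem hs hx) (inv_mem hs)
  have e : n * s * x * (n * s)⁻¹ = n * a * n⁻¹ := by rw [ha]; group
  rw [e] at hgx ⊢
  have hdN : a⁻¹ * (n * a * n⁻¹) ∈ N := by
    have h1 : a⁻¹ * n * a⁻¹⁻¹ ∈ N := hNn.conj_mem n hn a⁻¹
    rw [inv_inv] at h1
    have := mul_mem h1 (inv_mem hn)
    convert this using 1
    group
  exact inv_mul_eq_one.mp
    (Subgroup.disjoint_def.mp hNP.disjoint hdN (mul_mem (inv_mem haP) hgx))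

/-- A perfect group as described has no quasidihedral Sylow 2-subgroup. -/
theorem not_quasidihedral {X : Type u} [Group X] [Finite X] [Group.IsPerfect X] (S : Sylow 2 X)
    (hS : Cfsg.IsQuasiDihedral (S : Subgroup X))
    (hcyc : ∀ z : X, orderOf z = 2 → ∀ q : ℕ, q.Prime → q ≠ 2 →
      ∀ y ∈ centralizer ({z} : Set X), ∀ k : ℕ, y ^ q ^ k = 1 →
      centralizer ({z} : Set X) ≤ normalizer ((zpowers y : Subgroup X) : Set X)) : False := by
  classical
  haveI : Fact (Nat.Prime 2) := ⟨Nat.prime_two⟩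
  obtain ⟨n, hn3, hcard, x, y, hx, hy, hyx⟩ := hS
  set k := 2 ^ (n - 1) - 1 with hk
  set z := x ^ 2 ^ (n - 1) with hz
  have hpow : 2 ^ (n - 1) * 2 = 2 ^ n := by rw [← pow_succ]; congr 1; omega
  have h4 : 4 ≤ 2 ^ (n - 1) := by
    calc 4 = 2 ^ 2 := rfl
      _ ≤ _ := Nat.pow_le_pow_right two_pos (by omega)
  have hkodd : Odd k := by
    rw [hk, Nat.odd_iff]
    obtain ⟨m, hm⟩ : 2 ∣ 2 ^ (n - 1) := dvd_pow_self 2 (by omega)
    omega
  have hz2 : orderOf z = 2 := by
    rw [hz, orderOf_pow' _ (by positivity), hx, Nat.gcd_eq_right (Dvd.intro _ hpow)]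
    rw [← hpow, Nat.mul_div_cancel_left _ (by positivity)]
  have hyy : y * y = 1 := by
    have := pow_orderOf_eq_one y
    rwa [hy, pow_two] at this
  have hzz : z * z = 1 := by
    have := pow_orderOf_eq_one z
    rwa [hz2, pow_two] at this
  have hyi : y⁻¹ = y := inv_eq_of_mul_eq_one_right hyy
  have hconj : ∀ i : ℤ, y * x ^ i = x ^ ((k : ℤ) * i) * y := by
    intro i
    rw [zpow_mul, zpow_natCast, ← hyx, conj_zpow]
    group
  have hyx0 : y ∉ zpowers x := by
    intro h
    obtain ⟨i, hi⟩ := mem_zpowers_iff.mp h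
    have e : x = x ^ k := by
      rw [← hyx, ← hi]; group
    have h1 : x ^ ((k : ℤ) - 1) = 1 := by
      rw [zpow_sub, zpow_natCast, zpow_one, ← e, mul_inv_cancel]
    have h2 := orderOf_dvd_iff_zpow_eq_one.mpr h1
    rw [hx, ← hpow] at h2
    have h3 : ((2 ^ (n - 1) * 2 : ℕ) : ℤ) ≤ (k : ℤ) - 1 := Int.le_of_dvd (by omega) h2
    omega
  have hidx : (zpowers x).index = 2 := by
    have h := (zpowers x).card_mul_index
    rw [Nat.card_zpowers, hx, hcard, pow_succ] at h
    exact Nat.eq_of_mul_eq_mul_left (by positivity) h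
  have hform : ∀ s : ↥(S : Subgroup X), ∃ i : ℤ, s = x ^ i ∨ s = x ^ i * y := by
    intro s
    by_cases hs : s ∈ zpowers x
    · obtain ⟨i, hi⟩ := mem_zpowers_iff.mp hs
      exact ⟨i, Or.inl hi.symm⟩
    · have h : s * y ∈ zpowers x := by
        rw [mul_mem_iff_of_index_two hidx]; exact iff_of_false hs hyx0
      obtain ⟨i, hi⟩ := mem_zpowers_iff.mp h
      exact ⟨i, Or.inr (by rw [hi, mul_assoc, hyy, mul_one])⟩
  have hparity : ∀ {i : ℤ}, x ^ i ∈ (⊥ : Subgroup ↥(S : Subgroup X)) → Even i := fun {i} h => by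
    have h1 := orderOf_dvd_iff_zpow_eq_one.mpr (Subgroup.mem_bot.mp h)
    rw [hx] at h1
    refine even_iff_two_dvd.mpr (dvd_trans ?_ h1)
    exact_mod_cast dvd_pow_self 2 (show n ≠ 0 by omega)
  have hsq : ∀ i : ℤ, x ^ i * y * (x ^ i * y) = z ^ i := by
    intro i
    calc x ^ i * y * (x ^ i * y) = x ^ i * (y * x ^ i) * y := by group
      _ = x ^ i * x ^ ((k : ℤ) * i) * (y * y) := by rw [hconj]; group
      _ = _ := by
        rw [hyy, mul_one, ← zpow_add, hz, ← zpow_natCast, ← zpow_mul]
        congr 1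
        have : ((2 ^ (n - 1) : ℕ) : ℤ) = (k : ℤ) + 1 := by omega
        rw [this]; ring
  -- the even half
  let D : Subgroup ↥(S : Subgroup X) :=
    { carrier := {s | ∃ i : ℤ, Even i ∧ (s = x ^ i ∨ s = x ^ i * y)}
      one_mem' := ⟨0, ⟨0, rfl⟩, Or.inl (by simp)⟩
      mul_mem' := fun {a b} ha hb => by
        obtain ⟨i, hi, ha⟩ := ha
        obtain ⟨j, hj, hb⟩ := hb
        have hkj : Even ((k : ℤ) * j) := hj.mul_left _
        rcases ha with rfl | rfl <;> rcases hb with rfl | rfl
        · exact ⟨i + j, hi.add hj, Or.inl (zpow_add x i j).symm⟩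
        · exact ⟨i + j, hi.add hj, Or.inr (by rw [zpow_add]; group)⟩
        · exact ⟨i + k * j, hi.add hkj, Or.inr (by rw [mul_assoc, hconj, zpow_add]; group)⟩
        · refine ⟨i + k * j, hi.add hkj, Or.inl ?_⟩
          calc x ^ i * y * (x ^ j * y) = x ^ i * (y * x ^ j) * y := by group
            _ = x ^ i * x ^ ((k : ℤ) * j) * (y * y) := by rw [hconj]; group
            _ = _ := by rw [hyy, mul_one, zpow_add]
      inv_mem' := fun {a} ha => by
        obtain ⟨i, hi, ha⟩ := ha
        rcases ha with rfl | rfl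
        · exact ⟨-i, hi.neg, Or.inl (zpow_neg x i).symm⟩
        · refine ⟨(k : ℤ) * -i, hi.neg.mul_left _, Or.inr ?_⟩
          rw [← hconj, mul_inv_rev, hyi, zpow_neg] }
  have hxmem : ∀ {i : ℤ}, x ^ i ∈ D → Even i := by
    rintro i ⟨j, hj, h | h⟩
    · have h1 : x ^ (i - j) ∈ (⊥ : Subgroup ↥(S : Subgroup X)) := by
        rw [Subgroup.mem_bot, zpow_sub, h, mul_inv_cancel]
      simpa using (hparity h1).add hj
    · exact absurd (by
        rw [show y = (x ^ j)⁻¹ * x ^ i by rw [h]; group]
        exact mul_mem (inv_mem (zpow_mem (mem_zpowers x) _)) (zpow_mem (mem_zpowers x) _)) hyx0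
  have hout : ∀ s : ↥(S : Subgroup X), s ∉ D → ∃ i : ℤ, Odd i ∧ (s = x ^ i ∨ s = x ^ i * y) := by
    intro s hs
    obtain ⟨i, hi⟩ := hform s
    exact ⟨i, Int.not_even_iff_odd.mp fun h => hs ⟨i, h, hi⟩, hi⟩
  have hzC : (S : Subgroup X) ≤ centralizer ({(z : X)} : Set X) := by
    intro a ha
    rw [mem_centralizer_singleton_iff]
    have hzy : y * z = z * y := by
      rw [hz, ← zpow_natCast x, hconj]
      congr 1
      refine mul_inv_eq_one.mp ?_
      rw [← zpow_sub]
      refine orderOf_dvd_iff_zpow_eq_one.mp ⟨((2 ^ (n - 2) : ℕ) : ℤ) - 1, ?_⟩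
      rw [hx]
      have h2 : 2 ^ (n - 2) * 2 = 2 ^ (n - 1) := by rw [← pow_succ]; congr 1; omega
      have hk' : (k : ℤ) = ((2 ^ (n - 2) : ℕ) : ℤ) * 2 - 1 := by omega
      rw [hk', ← hpow, ← h2]
      push_cast
      ring
    obtain ⟨i, hi⟩ := hform ⟨a, ha⟩
    have hxz : x ^ i * z = z * x ^ i := ((Commute.refl x).zpow_left i).pow_right _
    have : (⟨a, ha⟩ : ↥(S : Subgroup X)) * z = z * ⟨a, ha⟩ := by
      rcases hi with e | e <;> rw [e]
      · exact hxz
      · rw [mul_assoc, hzy, ← mul_assoc, hxz, mul_assoc]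
    exact congrArg Subtype.val this
  -- fusion respects the even half
  have key : ∀ a b : ↥(S : Subgroup X), ∀ g : X, g * a * g⁻¹ = b → a ∈ D → b ∈ D := by
    intro a b g hab ha
    by_contra hb
    have hord : orderOf a = orderOf b := by
      rw [← orderOf_coe a, ← orderOf_coe b, ← hab]
      exact (orderOf_injective (MulAut.conj g).toMonoidHom (MulAut.conj g).injective (a : X)).symm
    obtain ⟨i, hi, hai⟩ := ha
    obtain ⟨j, hj, hbj⟩ := hout b hb
    rcases hbj with rfl | rfl
    · have hob : orderOf (x ^ j) = 2 ^ n := by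
        have hodd := Int.natAbs_odd.mpr hj
        have h1 : orderOf (x ^ j.natAbs) = 2 ^ n := by
          rw [orderOf_pow' _ hodd.pos.ne', hx,
            show Nat.gcd (2 ^ n) j.natAbs = 1 from
              Nat.Coprime.pow_left _ (Nat.coprime_two_left.mpr hodd), Nat.div_one]
        rcases Int.natAbs_eq j with e | e <;> rw [e]
        · rwa [zpow_natCast]
        · rwa [zpow_neg, orderOf_inv, zpow_natCast]
      have hle : (2 : ℕ) ^ n ∣ 2 ^ (n - 1) := by
        rw [← hob, ← hord]
        refine orderOf_dvd_of_pow_eq_one ?_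
        rcases hai with rfl | rfl
        · rw [← zpow_natCast, ← zpow_mul, ← orderOf_dvd_iff_zpow_eq_one, hx, ← hpow]
          obtain ⟨m, rfl⟩ := hi
          exact ⟨m, by push_cast; ring⟩
        · obtain ⟨m, rfl⟩ := hi
          rw [← Nat.mul_div_cancel' (dvd_pow_self 2 (show n - 1 ≠ 0 by omega)), pow_mul, pow_two,
            hsq, ← two_mul, zpow_mul, zpow_two, hzz, one_zpow, one_pow]
      have := Nat.le_of_dvd (by positivity) hle
      omega
    · have hbb : x ^ j * y * (x ^ j * y) = z := by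
        rw [hsq]
        obtain ⟨m, rfl⟩ := hj
        rw [zpow_add, zpow_mul, zpow_two, zpow_one,
          hzz, one_zpow, one_mul]
      have hab' := hab
      rcases hai with rfl | rfl <;> push_cast at hab'
      · have haa : x ^ i * x ^ i = z := by
          have hab2 : g * ((x ^ i * x ^ i : ↥(S : Subgroup X)) : X) * g⁻¹ = (z : X) := by
            rw [← hbb]
            push_cast
            rw [← hab']
            group
          have ho : orderOf (x ^ i * x ^ i) = 2 := by
            rw [← orderOf_coe]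
            have := orderOf_injective (MulAut.conj g).toMonoidHom (MulAut.conj g).injective
              ((x ^ i * x ^ i : ↥(S : Subgroup X)) : X)
            simp only [MulEquiv.coe_toMonoidHom, MulAut.conj_apply] at this
            rw [← this, hab2, orderOf_coe, hz2]
          refine PGroups.eq_of_sq_eq_one (inferInstance : IsCyclic (zpowers x))
            (mul_mem (zpow_mem (mem_zpowers x) i) (zpow_mem (mem_zpowers x) i))
            (hz ▸ pow_mem (mem_zpowers x) _) ?_ ?_ ?_ ?_
          · have := pow_orderOf_eq_one (x ^ i * x ^ i)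
            rwa [ho] at this
          · rw [pow_two, hzz]
          · intro e; rw [e, orderOf_one] at ho; norm_num at ho
          · intro e; rw [e, orderOf_one] at hz2; norm_num at hz2
        have hgC : g ∈ centralizer ({(z : X)} : Set X) := by
          rw [mem_centralizer_singleton_iff]
          have h1 : g * ((z : ↥(S : Subgroup X)) : X) * g⁻¹ = z := by
            conv_lhs => rw [← haa]
            rw [← hbb]
            push_cast
            rw [← hab']
            group
          exact mul_inv_eq_iff_eq_mul.mp h1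
        set C := centralizer ({(z : X)} : Set X) with hC
        obtain ⟨s, hs, hse⟩ := fusion_of_normal_cyclic (S.subtype hzC)
          (fun q hq hq2 w l hwl => by
            have hwl' : (w : X) ^ q ^ l = 1 := by
              rw [← SubmonoidClass.coe_pow, hwl, OneMemClass.coe_one]
            have hle := hcyc (z : X) (by rw [orderOf_coe, hz2]) q hq hq2 w w.2 l hwl'
            refine ⟨fun v hv c => ?_⟩
            obtain ⟨i, rfl⟩ := mem_zpowers_iff.mp hv
            obtain ⟨m, hm⟩ := mem_zpowers_iff.mp ((mem_normalizer_iff.mp (hle c.2) ((w : X) ^ i)).mp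
              (zpow_mem (mem_zpowers _) i))
            exact mem_zpowers_iff.mpr ⟨m, Subtype.ext (by push_cast; exact hm)⟩)
          (x := ⟨((x ^ i : ↥(S : Subgroup X)) : X), hzC (x ^ i).2⟩) (g := ⟨g, hgC⟩)
          (x ^ i).2 (by
            show g * ((x ^ i : ↥(S : Subgroup X)) : X) * g⁻¹ ∈ (S : Subgroup X)
            rw [hab]; exact (x ^ j * y).2)
        have hse' : (⟨(s : X), hs⟩ : ↥(S : Subgroup X)) * x ^ i * ⟨(s : X), hs⟩⁻¹ = x ^ j * y := by
          apply Subtype.ext
          have := congrArg Subtype.val hse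
          simp only [Subgroup.coe_mul, Subgroup.coe_inv] at this ⊢
          rw [this, hab]; push_cast; rfl
        haveI := normal_of_index_eq_two hidx
        have hmem : x ^ j * y ∈ zpowers x := hse' ▸
          (inferInstance : (zpowers x).Normal).conj_mem _ (zpow_mem (mem_zpowers x) i) _
        exact hyx0 ((mul_mem_cancel_left (zpow_mem (mem_zpowers x) j)).mp hmem)
      · obtain ⟨m, rfl⟩ := hi
        have h0 : ((x ^ (m + m) * y * (x ^ (m + m) * y) : ↥(S : Subgroup X)) : X) = 1 := by
          rw [hsq, ← two_mul, zpow_mul, zpow_two,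
            hzz, one_zpow, OneMemClass.coe_one]
        have hz1 : (z : X) = 1 := by
          rw [← hbb]
          push_cast at h0 ⊢
          rw [← hab']
          calc _ = g * ((x : X) ^ (m + m) * (y : X) * ((x : X) ^ (m + m) * (y : X))) * g⁻¹ := by group
            _ = 1 := by rw [h0, mul_one, mul_inv_cancel]
        have : z = 1 := Subtype.ext hz1
        rw [this, orderOf_one] at hz2
        norm_num at hz2
  -- the focal subgroup lies in the even half
  have hfoc : (S : Subgroup X).focalSubgroup ≤ D.map (S : Subgroup X).subtype := by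
    rw [focalSubgroup_def, closure_le]
    rintro g ⟨hg, a, ha, u, rfl⟩
    have hb : u * a⁻¹ * u⁻¹ ∈ (S : Subgroup X) := by
      have := mul_mem (inv_mem ha) hg
      simpa [commutatorElement_def, mul_assoc] using this
    set a' : ↥(S : Subgroup X) := ⟨a, ha⟩
    set b' : ↥(S : Subgroup X) := ⟨_, hb⟩
    have e1 : u * ((a'⁻¹ : ↥(S : Subgroup X)) : X) * u⁻¹ = b' := rfl
    have e2 : u⁻¹ * (b' : X) * u⁻¹⁻¹ = ((a'⁻¹ : ↥(S : Subgroup X)) : X) := by
      show u⁻¹ * (u * a⁻¹ * u⁻¹) * u⁻¹⁻¹ = a⁻¹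
      group
    have hiff : a' ∈ D ↔ b' ∈ D :=
      ⟨fun h => key _ _ u e1 (inv_mem h), fun h => inv_mem_iff.mp (key _ _ u⁻¹ e2 h)⟩
    refine ⟨a' * b', ?_, ?_⟩
    · by_cases h : a' ∈ D
      · exact mul_mem h (hiff.mp h)
      · obtain ⟨i, hi, hai⟩ := hout a' h
        obtain ⟨j, hj, hbj⟩ := hout b' fun hb' => h (hiff.mpr hb')
        have hkj : Odd ((k : ℤ) * j) := (Int.odd_mul).mpr ⟨by exact_mod_cast hkodd, hj⟩
        rcases hai with e | e <;> rcases hbj with e' | e' <;> rw [e, e']
        · exact ⟨i + j, hi.add_odd hj, Or.inl (zpow_add x i j).symm⟩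
        · exact ⟨i + j, hi.add_odd hj, Or.inr (by rw [zpow_add]; group)⟩
        · exact ⟨i + k * j, hi.add_odd hkj, Or.inr (by rw [mul_assoc, hconj, zpow_add]; group)⟩
        · refine ⟨i + k * j, hi.add_odd hkj, Or.inl ?_⟩
          calc x ^ i * y * (x ^ j * y) = x ^ i * (y * x ^ j) * y := by group
            _ = x ^ i * x ^ ((k : ℤ) * j) * (y * y) := by rw [hconj]; group
            _ = _ := by rw [hyy, mul_one, zpow_add]
    · show a * (u * a⁻¹ * u⁻¹) = ⁅a, u⁆
      rw [commutatorElement_def]; group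
  have hxD : x ∈ D := by
    have hx' : (x : X) ∈ commutator X ⊓ (S : Subgroup X) := ⟨Group.IsPerfect.mem_commutator, x.2⟩
    rw [commutator_inf_eq_focalSubgroup] at hx'
    obtain ⟨d, hd, hdx⟩ := hfoc hx'
    rwa [← Subtype.ext hdx]
  exact Int.not_even_one (hxmem (by rwa [zpow_one]))

end Cfsg.Agent.H61.MaxNorm
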