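import Cfsg.Agent.H61.MaxNorm.Basic

/-!
Commuting subgroups of coprime prime power order share their normalisers.
-/

set_option autoImplicit false
set_option linter.unusedSectionVars false
set_option linter.style.haveILetI false

namespace Cfsg.Agent.H61.MaxNorm

open Subgroup

variable {G : Type*} [Group G]

/-- `A` is the set of `p`-elements of `A ⊔ B`. -/
theorem mem_of_pElement [Finite G] {p q : ℕ} [Fact p.Prime] [Fact q.Prime] (hpq : p ≠ q)
    {A B : Subgroup G} (hB : IsPGroup q B) (hn : B ≤ normalizer (A : Set G)) {x : G}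
    (hx : x ∈ A ⊔ B) {k : ℕ} (hk : x ^ p ^ k = 1) : x ∈ A := by
  rw [← SetLike.mem_coe, Subgroup.coe_mul_of_right_le_normalizer_left _ _ hn, Set.mem_mul] at hx
  obtain ⟨a, ha, b, hb, rfl⟩ := hx
  have key : ∀ n : ℕ, (a * b) ^ n * (b ^ n)⁻¹ ∈ A := by
    intro n
    induction n with
    | zero => simp
    | succ n ih =>
      have h2 : b ^ n * a * (b ^ n)⁻¹ ∈ A := (mem_normalizer_iff.mp (hn (pow_mem hb n)) a).mp ha
      have := A.mul_mem ih h2
      convert this using 1
      rw [pow_succ (a * b), pow_succ b]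
      group
  obtain ⟨m, hm⟩ := hB ⟨b, hb⟩
  have hbm : b ^ q ^ m = 1 := by simpa using congrArg Subtype.val hm
  have hA : (a * b) ^ q ^ m ∈ A := by simpa [hbm] using key (q ^ m)
  have hcop : Nat.Coprime (p ^ k) (q ^ m) :=
    Nat.Coprime.pow _ _ ((Nat.coprime_primes Fact.out Fact.out).mpr hpq)
  have hmem : (a * b) ∈ A := by
    have h1 : orderOf (a * b) ∣ p ^ k := orderOf_dvd_of_pow_eq_one hk
    obtain ⟨j, hj⟩ := exists_pow_eq_self_of_coprime
      ((Nat.Coprime.coprime_dvd_left h1 hcop).symm)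
    rw [← hj]
    exact pow_mem hA _
  exact hmem

theorem normalizer_sup_le [Finite G] {p q : ℕ} [Fact p.Prime] [Fact q.Prime] (hpq : p ≠ q)
    {A B : Subgroup G} (hA : IsPGroup p A) (hB : IsPGroup q B) (hn : B ≤ normalizer (A : Set G)) :
    normalizer ((A ⊔ B : Subgroup G) : Set G) ≤ normalizer (A : Set G) := by
  intro x hx
  have key : ∀ y ∈ normalizer ((A ⊔ B : Subgroup G) : Set G), ∀ a ∈ A, y * a * y⁻¹ ∈ A := by
    intro y hy a ha
    obtain ⟨k, hk⟩ := hA ⟨a, ha⟩
    refine mem_of_pElement hpq hB hn ((mem_normalizer_iff.mp hy a).mp (mem_sup_left ha)) (k := k) ?_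
    have : a ^ p ^ k = 1 := by simpa using congrArg Subtype.val hk
    rw [conj_pow, this]
    group
  rw [mem_normalizer_iff]
  intro a
  refine ⟨key x hx a, fun h => ?_⟩
  have := key x⁻¹ (inv_mem hx) _ h
  simpa [mul_assoc] using this

theorem zpowers_pGroup {p : ℕ} [Fact p.Prime] {x : G} {k : ℕ} (h : x ^ p ^ k = 1) :
    IsPGroup p (zpowers x) := by
  intro y
  obtain ⟨i, hi⟩ := mem_zpowers_iff.mp y.2
  refine ⟨k, Subtype.ext ?_⟩
  rw [SubmonoidClass.coe_pow, ← hi, ← zpow_natCast, ← zpow_mul, mul_comm, zpow_mul, zpow_natCast, h,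
    one_zpow, OneMemClass.coe_one]

theorem zpowers_two {t : G} (ht : orderOf t = 2) : IsPGroup 2 (zpowers t) :=
  haveI : Fact (Nat.Prime 2) := ⟨Nat.prime_two⟩
  zpowers_pGroup (k := 1) (by rw [pow_one, ← ht, pow_orderOf_eq_one])

theorem normalizer_zpowers_two {t : G} (ht : orderOf t = 2) :
    normalizer ((zpowers t : Subgroup G) : Set G) = centralizer ({t} : Set G) := by
  have ht1 : t ≠ 1 := fun h => by rw [h, orderOf_one] at ht; norm_num at ht
  have ht2 : ∀ y ∈ zpowers t, y = 1 ∨ y = t := by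
    intro y hy
    obtain ⟨i, rfl⟩ := mem_zpowers_iff.mp hy
    rw [← zpow_mod_orderOf, ht]
    rcases Int.emod_two_eq_zero_or_one i with h | h <;> simp [h]
  ext x
  rw [mem_normalizer_iff, mem_centralizer_singleton_iff]
  constructor
  · intro h
    rcases ht2 _ ((h t).mp (mem_zpowers t)) with e | e
    · exact absurd (conj_eq_one_iff.mp e) ht1
    · exact (mul_inv_eq_iff_eq_mul.mp e)
  · intro h y
    have e : x * t * x⁻¹ = t := mul_inv_eq_iff_eq_mul.mpr h
    constructor
    · intro hy
      rcases ht2 y hy with rfl | rfl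
      · simp
      · rw [e]; exact mem_zpowers _
    · intro hy
      rcases ht2 _ hy with h1 | h1
      · rw [conj_eq_one_iff.mp h1]; exact one_mem _
      · have : y = t := mul_left_cancel (mul_right_cancel (h1.trans e.symm))
        rw [this]; exact mem_zpowers _

/-- elements fixed by conjugation with a normalising element -/
theorem commute_of_normalizes {A : Subgroup G} {q : ℕ} [Fact q.Prime] (hq : q ≠ 2)
    (hA : IsPGroup 2 A) {a g : G} {k : ℕ} (hg : g ^ q ^ k = 1) (ha : a ∈ A)
    (h1 : g ∈ normalizer (A : Set G)) (h2 : a ∈ normalizer ((zpowers g : Subgroup G) : Set G)) :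
    a * g = g * a := by
  haveI : Fact (Nat.Prime 2) := ⟨Nat.prime_two⟩
  have hc1 : a * g * a⁻¹ * g⁻¹ ∈ A := by
    have h : g * a⁻¹ * g⁻¹ ∈ A := (mem_normalizer_iff.mp h1 _).mp (inv_mem ha)
    have h' := A.mul_mem ha h
    convert h' using 1
    group
  have hc2 : a * g * a⁻¹ * g⁻¹ ∈ zpowers g :=
    mul_mem ((mem_normalizer_iff.mp h2 g).mp (mem_zpowers g)) (inv_mem (mem_zpowers g))
  have hd := IsPGroup.disjoint_of_ne 2 q (Ne.symm hq) A (zpowers g) hA (zpowers_pGroup hg)
  have h0 := Subgroup.disjoint_def.mp hd hc1 hc2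
  rw [mul_inv_eq_one, mul_inv_eq_iff_eq_mul] at h0
  exact h0

section Semisimple

variable [Finite G] (hG : MaxNorm G) (hR : Cfsg.solvableRadical G = ⊥)
include hG hR

/-- commuting subgroups for different primes share their normaliser -/
theorem share {p q : ℕ} [Fact p.Prime] [Fact q.Prime] (hpq : p ≠ q) {A B : Subgroup G}
    (hA : IsPGroup p A) (hB : IsPGroup q B) (hA1 : A ≠ ⊥) (hB1 : B ≠ ⊥)
    (hcomm : ∀ a ∈ A, ∀ b ∈ B, a * b = b * a) :
    normalizer (A : Set G) = normalizer (B : Set G) := by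
  have hn : ∀ {A B : Subgroup G}, (∀ a ∈ A, ∀ b ∈ B, a * b = b * a) → B ≤ normalizer (A : Set G) := by
    intro A B h b hb
    rw [mem_normalizer_iff]
    intro x
    constructor
    · intro hx
      rwa [← h x hx b hb, mul_inv_cancel_right]
    · intro hx
      have e := h _ hx b hb
      have e2 : b * x = b * (b * x * b⁻¹) := by rw [← e]; group
      rw [mul_left_cancel e2]
      exact hx
  have h1 := hn hcomm
  have h2 := hn (A := B) (B := A) fun a ha b hb => (hcomm b hb a ha).symm
  have hco := coatom_sup hG hR hA1 hA hB h1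
  have e1 := normalizer_eq_of_le hG hR hco hA1 hA (normalizer_sup_le hpq hA hB h1)
  have e2 := normalizer_eq_of_le hG hR hco hB1 hB (by
    rw [sup_comm A B]; exact normalizer_sup_le (Ne.symm hpq) hB hA h2)
  rw [← e1, e2]

/-- an element of odd prime power order commuting with an involution has its centraliser as normaliser -/
theorem share_involution {q : ℕ} [Fact q.Prime] (hq : q ≠ 2) {t y : G} (ht : orderOf t = 2)
    {k : ℕ} (hy : y ^ q ^ k = 1) (hy1 : y ≠ 1) (hc : t * y = y * t) :
    normalizer ((zpowers y : Subgroup G) : Set G) = centralizer ({t} : Set G) := by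
  haveI : Fact (Nat.Prime 2) := ⟨Nat.prime_two⟩
  rw [← normalizer_zpowers_two ht]
  refine share hG hR hq (zpowers_pGroup hy) (zpowers_two ht) (by simpa using hy1) ?_ ?_
  · intro h
    rw [zpowers_eq_bot] at h
    rw [h, orderOf_one] at ht
    norm_num at ht
  · intro a ha b hb
    obtain ⟨i, rfl⟩ := mem_zpowers_iff.mp ha
    obtain ⟨j, rfl⟩ := mem_zpowers_iff.mp hb
    exact ((Commute.zpow_zpow (show Commute y t from hc.symm) i j).eq)

end Semisimple

end Cfsg.Agent.H61.MaxNorm
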