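import Cfsg.Agent.H61.MaxNorm.Four
import Cfsg.Agent.S0071
import Cfsg.Agent.S0205

/-!
A semisimple group with maximal normalisers is almost simple, and its simple normal subgroup has a
self-centralising four-group with an automorphism of order three.
-/

set_option autoImplicit false
set_option linter.unusedSectionVars false
set_option linter.style.haveILetI false

namespace Cfsg.Agent.H61.MaxNorm

open Subgroup

universe u

variable {G : Type u} [Group G]

theorem exists_primePow_not_mem [Finite G] (C : Subgroup G) {g : G} (hg : g ∉ C) :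
    ∃ q k : ℕ, q.Prime ∧ q ∣ orderOf g ∧ ∃ h ∈ zpowers g, h ∉ C ∧ h ^ q ^ k = 1 := by
  induction hn : orderOf g using Nat.strong_induction_on generalizing g with
  | _ n ih =>
    have hn1 : n ≠ 1 := fun h => hg (by
      rw [orderOf_eq_one_iff.mp (hn.trans h)]; exact one_mem C)
    set q := n.minFac with hq
    have hqp : q.Prime := Nat.minFac_prime hn1
    have hqn : q ∣ n := n.minFac_dvd
    obtain ⟨v, m, hm, hnm⟩ := Nat.exists_eq_pow_mul_and_not_dvd (hn ▸ (orderOf_pos g).ne' : n ≠ 0)
      q hqp.ne_one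
    have hv : v ≠ 0 := by
      rintro rfl
      rw [pow_zero, one_mul] at hnm
      exact hm (hnm ▸ hqn)
    have h1 : (g ^ m) ^ q ^ v = 1 := by
      rw [← pow_mul, mul_comm, ← hnm, ← hn, pow_orderOf_eq_one]
    by_cases hgm : g ^ m ∈ C
    · have hlt : orderOf (g ^ q ^ v) < n := by
        have hd : orderOf (g ^ q ^ v) ∣ m := orderOf_dvd_of_pow_eq_one (by
          rw [← pow_mul, ← hnm, ← hn, pow_orderOf_eq_one])
        have hmpos : 0 < m := Nat.pos_of_ne_zero fun h => hm (h ▸ dvd_zero q)
        calc orderOf (g ^ q ^ v) ≤ m := Nat.le_of_dvd hmpos hd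
          _ < q ^ v * m := lt_mul_left hmpos (Nat.one_lt_pow hv hqp.one_lt)
          _ = n := hnm.symm
      have hgq : g ^ q ^ v ∉ C := by
        intro hgq
        have hcop : (q ^ v).gcd m = 1 :=
          Nat.Coprime.pow_left _ ((Nat.Prime.coprime_iff_not_dvd hqp).mpr hm)
        have e := Nat.gcd_eq_gcd_ab (q ^ v) m
        rw [hcop] at e
        refine hg ?_
        rw [← zpow_one g, show (1 : ℤ) = ((1 : ℕ) : ℤ) from rfl, e, zpow_add, zpow_mul, zpow_mul,
          zpow_natCast, zpow_natCast]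
        exact mul_mem (zpow_mem hgq _) (zpow_mem hgm _)
      obtain ⟨r, k, hr, hrd, h, hh, hhC, hhk⟩ := ih _ hlt hgq rfl
      exact ⟨r, k, hr, hrd.trans (hn ▸ orderOf_pow_dvd _), h,
        (zpowers_le.mpr (pow_mem (mem_zpowers g) _)) hh, hhC, hhk⟩
    · exact ⟨q, v, hqp, hqn, g ^ m, pow_mem (mem_zpowers g) _, hgm, h1⟩

theorem exists_odd_prime [Finite G] (h : ¬ Group.IsSolvable G) :
    ∃ q : ℕ, q.Prime ∧ q ≠ 2 ∧ q ∣ Nat.card G := by
  by_contra hcon
  push Not at hcon
  haveI : Fact (Nat.Prime 2) := ⟨Nat.prime_two⟩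
  have hp : IsPGroup 2 G := by
    rw [IsPGroup.iff_card]
    exact ⟨_, Nat.eq_prime_pow_of_unique_prime_dvd Nat.card_pos.ne' fun {d} hd hdd =>
      by_contra fun hne => hcon d hd hne hdd⟩
  haveI := hp.isNilpotent
  exact h inferInstance

section Semisimple

variable [Finite G] (hG : MaxNorm G) (hR : Cfsg.solvableRadical G = ⊥)
include hG hR

theorem not_solvable_of_subnormal {T : Subgroup G} (hs : T.IsSubnormal) (hne : T ≠ ⊥) :
    ¬ Group.IsSolvable T :=
  fun h => hne (le_bot_iff.mp (hR ▸ subnormal_le_rad hs h))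

/-- Two nontrivial subnormal subgroups do not commute. -/
theorem not_commuting_subnormal {T1 T2 : Subgroup G} (h1 : T1.IsSubnormal) (h2 : T2.IsSubnormal)
    (n1 : T1 ≠ ⊥) (n2 : T2 ≠ ⊥) (hc : ∀ a ∈ T1, ∀ b ∈ T2, a * b = b * a) : False := by
  have hev : 2 ∣ Nat.card T1 := by
    rw [← even_iff_two_dvd]
    exact Nat.not_odd_iff_even.1 fun h => not_solvable_of_subnormal hG hR h1 n1 (S0205.result h)
  obtain ⟨q, hq, hq2, hqd⟩ := exists_odd_prime (not_solvable_of_subnormal hG hR h2 n2)
  haveI : Fact (Nat.Prime 2) := ⟨Nat.prime_two⟩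
  haveI : Fact q.Prime := ⟨hq⟩
  obtain ⟨a, ha⟩ := exists_prime_orderOf_dvd_card' 2 hev
  obtain ⟨b, hb⟩ := exists_prime_orderOf_dvd_card' q hqd
  have ha' : orderOf (a : G) = 2 := by rw [orderOf_coe, ha]
  have hb' : orderOf (b : G) = q := by rw [orderOf_coe, hb]
  have hb1 : (b : G) ≠ 1 := fun e => by
    rw [e, orderOf_one] at hb'; exact hq.one_lt.ne hb'
  have hN : normalizer ((zpowers (b : G) : Subgroup G) : Set G) = centralizer ({(a : G)} : Set G) :=
    share_involution hG hR hq2 ha' (k := 1) (by rw [pow_one, ← hb', pow_orderOf_eq_one]) hb1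
      (hc a a.2 b b.2)
  have hle : zpowers (b : G) ≤ T2 := zpowers_le.mpr b.2
  have hsn : (zpowers (b : G)).IsSubnormal := by
    refine IsSubnormal.step _ T2 hle h2 ?_
    rw [normal_subgroupOf_iff_le_normalizer hle, hN]
    exact fun x hx => mem_centralizer_singleton_iff.mpr (hc a a.2 x hx).symm
  have hsol : Group.IsSolvable (zpowers (b : G)) := inferInstance
  have := subnormal_le_rad hsn hsol
  rw [hR, le_bot_iff, zpowers_eq_bot] at this
  exact hb1 this

/-- A semisimple group with maximal normalisers is almost simple. -/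
theorem exists_simple (hne : Nontrivial G) :
    ∃ T : Subgroup G, T.Normal ∧ T ≠ ⊥ ∧ IsSimpleGroup T ∧ centralizer (T : Set G) = ⊥ := by
  obtain ⟨N, hN⟩ := (Set.toFinite {N : Subgroup G | N.Normal ∧ N ≠ ⊥}).exists_minimal
    ⟨⊤, inferInstance, top_ne_bot⟩
  obtain ⟨⟨hNn, hNne⟩, hmin⟩ := hN
  haveI := hNn
  refine ⟨N, hNn, hNne, ?_, ?_⟩
  · haveI : Nontrivial N := (nontrivial_iff_ne_bot N).mpr hNne
    refine ⟨fun K hK => ?_⟩
    by_contra hcon
    rw [not_or] at hcon
    obtain ⟨M, hM⟩ := (Set.toFinite {M : Subgroup N | M.Normal ∧ M ≠ ⊥ ∧ M ≠ ⊤}).exists_minimal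
      ⟨K, hK, hcon.1, hcon.2⟩
    obtain ⟨⟨hMn, hM1, hM2⟩, hMmin⟩ := hM
    haveI := hMn
    have hex : ∃ g : G, M.map (MulAut.conjNormal g : MulAut N).toMonoidHom ≠ M := by
      by_contra hall
      push Not at hall
      have hn' : (M.map N.subtype).Normal := by
        refine ⟨fun x hx g => ?_⟩
        obtain ⟨m, hm, rfl⟩ := hx
        have : (MulAut.conjNormal g : MulAut N) m ∈ M :=
          (SetLike.ext_iff.mp (hall g) _).mp ⟨m, hm, rfl⟩
        exact ⟨_, this, by simp⟩
      have hne' : M.map N.subtype ≠ ⊥ := fun h =>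
        hM1 ((map_eq_bot_iff_of_injective _ N.subtype_injective).mp h)
      have := hmin (y := M.map N.subtype) ⟨hn', hne'⟩ (map_subtype_le M)
      refine hM2 (map_injective N.subtype_injective ?_)
      rw [← MonoidHom.range_eq_map, range_subtype]
      exact le_antisymm (map_subtype_le M) this
    obtain ⟨g, hg⟩ := hex
    set M' := M.map (MulAut.conjNormal g : MulAut N).toMonoidHom with hM'
    have hM'n : M'.Normal := hMn.map _ (MulAut.conjNormal g : MulAut N).surjective
    haveI := hM'n
    have hinf : M ⊓ M' = ⊥ := by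
      by_contra hne'
      have hle := hMmin (y := M ⊓ M') ⟨inferInstance, hne', fun h => hM2 (by
        rw [eq_top_iff, ← h]; exact inf_le_left)⟩ inf_le_left
      have hle' : M ≤ M' := hle.trans inf_le_right
      exact hg (eq_of_le_of_card_ge hle' (le_of_eq
        (Nat.card_congr (equivMapOfInjective M _
          (MulAut.conjNormal g : MulAut N).injective).toEquiv).symm)).symm
    have hM'ne : M' ≠ ⊥ := fun h => hM1 ((map_eq_bot_iff_of_injective _
      (MulAut.conjNormal g : MulAut N).injective).mp h)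
    have hsub : ∀ X : Subgroup N, X.Normal → (X.map N.subtype).IsSubnormal := by
      intro X hX
      refine IsSubnormal.step _ N (map_subtype_le X) hNn.isSubnormal ?_
      rw [subgroupOf, comap_map_eq_self_of_injective N.subtype_injective]
      exact hX
    refine not_commuting_subnormal hG hR (hsub M hMn) (hsub M' hM'n)
      (fun h => hM1 ((map_eq_bot_iff_of_injective _ N.subtype_injective).mp h))
      (fun h => hM'ne ((map_eq_bot_iff_of_injective _ N.subtype_injective).mp h)) ?_
    rintro _ ⟨a, ha, rfl⟩ _ ⟨b, hb, rfl⟩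
    exact congrArg Subtype.val (commute_of_normal_of_disjoint M M' hMn hM'n
      (disjoint_iff.mpr hinf) a b ha hb).eq
  · by_contra hC
    exact not_commuting_subnormal hG hR hNn.isSubnormal
      (inferInstance : (centralizer (N : Set G)).Normal).isSubnormal hNne hC
      fun a ha b hb => mem_centralizer_iff.mp hb a ha

/-- The simple normal subgroup contains a self-centralising four-group with an element of order
three in its normaliser. -/
theorem exists_ess_le {T : Subgroup G} [T.Normal] (hne : T ≠ ⊥) (hT : IsSimpleGroup T) :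
    ∃ A : Subgroup G, Ess A ∧ A ≤ T ∧ Nat.card A = 4 ∧
      ∃ g ∈ normalizer (A : Set G), g ∈ T ∧ orderOf g = 3 := by
  classical
  haveI : Fact (Nat.Prime 2) := ⟨Nat.prime_two⟩
  have hns : ¬ Group.IsSolvable T :=
    not_solvable_of_subnormal hG hR (inferInstance : T.Normal).isSubnormal hne
  let P : Sylow 2 T := default
  have hno : ¬ ∃ N : Subgroup T, N.Normal ∧ N.IsComplement' (P : Subgroup T) := by
    rintro ⟨N, hNn, hNP⟩
    rcases hT.eq_bot_or_eq_top_of_normal N hNn with rfl | rfl
    · refine hns ?_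
      have e : (P : Subgroup T) = ⊤ := isComplement'_bot_left.mp hNP
      have h2 : IsPGroup 2 T := (e ▸ P.isPGroup').of_equiv topEquiv
      haveI := h2.isNilpotent
      infer_instance
    · refine hns (S0205.result ?_)
      rw [← Nat.not_even_iff_odd, even_iff_two_dvd]
      intro hd
      have e : (P : Subgroup T) = ⊥ := isComplement'_top_left.mp hNP
      have := P.dvd_card_of_dvd_card hd
      rw [e, card_bot] at this
      norm_num at this
  rw [S0071.result P] at hno
  push Not at hno
  obtain ⟨Q0, hQ0P, g0, hg0N, hg0c, hg0Q⟩ := hno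
  set Q : Subgroup G := Q0.map T.subtype with hQ
  have hQ2 : IsPGroup 2 Q := (P.isPGroup'.to_le hQ0P).map _
  have hgN : (g0 : G) ∈ normalizer (Q : Set G) :=
    le_normalizer_map T.subtype (mem_map_of_mem _ hg0N)
  have hgC : (g0 : G) ∉ centralizer (Q : Set G) := by
    intro h
    refine hg0Q (mem_centralizer_iff.mpr fun x hx => Subtype.ext ?_)
    exact mem_centralizer_iff.mp h (x : G) (mem_map_of_mem T.subtype hx)
  obtain ⟨q, k, hq, hqd, g, hg, hgnc, hgk⟩ := exists_primePow_not_mem _ hgC
  haveI : Fact q.Prime := ⟨hq⟩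
  have hq2 : q ≠ 2 := by
    rintro rfl
    rw [orderOf_coe] at hqd
    have := Nat.eq_one_of_dvd_coprimes hg0c hqd dvd_rfl
    norm_num at this
  have hgT : g ∈ T := (zpowers_le.mpr g0.2) hg
  have hgNQ : g ∈ normalizer (Q : Set G) := (zpowers_le.mpr hgN) hg
  obtain ⟨hA, hgA⟩ := exists_ess hG hR hQ2 hq2 hgk hgNQ
    fun hall => hgnc (mem_centralizer_iff.mpr hall)
  have h4 := card_eq_four hG hR hA
  refine ⟨omegaZ Q, hA, (omegaZ_le Q).trans (map_subtype_le Q0), h4, g, hgA, hgT, ?_⟩
  set A := omegaZ Q with hAdef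
  have hg1 : g ≠ 1 := fun h => hgnc (h ▸ one_mem _)
  have hcube : g ^ 3 = 1 := by
    by_contra h3
    have hfix : ∀ j : ℕ, g ^ j ≠ 1 → ∀ a ∈ A, a * g ^ j = g ^ j * a → a = 1 := fun j hj a ha e =>
      hA.fpf q hq hq2 _ (pow_mem hgA j) hj k (by rw [← pow_mul, mul_comm, pow_mul, hgk, one_pow]) a ha e
    have hg2 : g ^ 2 ≠ 1 := fun h => by
      have hd : orderOf g ∣ 2 := orderOf_dvd_of_pow_eq_one h
      rcases (Nat.dvd_prime Nat.prime_two).mp hd with e | e
      · exact hg1 (orderOf_eq_one_iff.mp e)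
      · have h2 : orderOf g ∣ q ^ k := orderOf_dvd_of_pow_eq_one hgk
        rw [e] at h2
        exact hq2 ((Nat.prime_dvd_prime_iff_eq Nat.prime_two hq).mp
          (Nat.prime_two.dvd_of_dvd_pow h2)).symm
    obtain ⟨a, ha, ha1⟩ := (bot_or_exists_ne_one A).resolve_left fun h => by
      rw [h, card_bot] at h4; norm_num at h4
    let c : ℕ → G := fun j => g ^ j * a * (g ^ j)⁻¹
    have hcA : ∀ j, c j ∈ A := fun j => (mem_normalizer_iff.mp (pow_mem hgA j) a).mp ha
    have hstep : ∀ i j, c i = c (i + j) → a * g ^ j = g ^ j * a := by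
      intro i j e
      simp only [c, pow_add] at e
      have e' : a = g ^ j * a * (g ^ j)⁻¹ := by
        calc a = (g ^ i)⁻¹ * (g ^ i * a * (g ^ i)⁻¹) * g ^ i := by group
          _ = _ := by rw [e]; group
      calc a * g ^ j = g ^ j * a * (g ^ j)⁻¹ * g ^ j := by rw [← e']
        _ = _ := by group
    have hd1 : ∀ i, c i ≠ c (i + 1) := fun i e =>
      ha1 (hfix 1 (by rwa [pow_one]) a ha (hstep i 1 e))
    have hd2 : ∀ i, c i ≠ c (i + 2) := fun i e => ha1 (hfix 2 hg2 a ha (hstep i 2 e))
    have hd3 : c 0 ≠ c 3 := fun e => ha1 (hfix 3 h3 a ha (hstep 0 3 e))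
    have hcne : ∀ i, c i ≠ 1 := fun i e => ha1 (conj_eq_one_iff.mp e)
    have h5 : ({1, c 0, c 1, c 2, c 3} : Finset G).card = 5 := by
      rw [Finset.card_insert_of_notMem, Finset.card_insert_of_notMem, Finset.card_insert_of_notMem,
        Finset.card_insert_of_notMem, Finset.card_singleton]
      · simpa using hd1 2
      · simp only [Finset.mem_insert, Finset.mem_singleton, not_or]
        exact ⟨hd1 1, hd2 1⟩
      · simp only [Finset.mem_insert, Finset.mem_singleton, not_or]
        exact ⟨hd1 0, hd2 0, hd3⟩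
      · simp only [Finset.mem_insert, Finset.mem_singleton, not_or]
        exact ⟨(hcne 0).symm, (hcne 1).symm, (hcne 2).symm, (hcne 3).symm⟩
    have : ({1, c 0, c 1, c 2, c 3} : Finset G).card ≤ Nat.card A := by
      rw [← Set.ncard_coe_finset, ← SetLike.coe_sort_coe, Nat.card_coe_set_eq]
      refine Set.ncard_le_ncard ?_ (Set.toFinite _)
      intro x hx
      simp only [Finset.coe_insert, Finset.coe_singleton, Set.mem_insert_iff,
        Set.mem_singleton_iff] at hx
      rcases hx with rfl | rfl | rfl | rfl | rfl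
      exacts [one_mem A, hcA 0, hcA 1, hcA 2, hcA 3]
    omega
  exact orderOf_eq_prime hcube hg1

end Semisimple

end Cfsg.Agent.H61.MaxNorm
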