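import Cfsg.Agent.H61.MaxNorm.Quasi
import Cfsg.Agent.S3224
import Cfsg.Agent.S0483
import Cfsg.Agent.Cores.Basic

/-!
The simple normal subgroup is a two-dimensional projective special linear group of odd
characteristic.
-/

set_option autoImplicit false
set_option linter.unusedSectionVars false
set_option linter.style.haveILetI false

namespace Cfsg.Agent.H61.MaxNorm

open Subgroup
open scoped commutatorElement

universe u

variable {G : Type u} [Group G] [Finite G] (hG : MaxNorm G) (hR : Cfsg.solvableRadical G = ⊥)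
include hG hR

theorem normalizer_zpowers_subgroup {T : Subgroup G} {z : T} (hz : orderOf z = 2) {q : ℕ}
    (hq : q.Prime) (hq2 : q ≠ 2) {y : T} (hy : y ∈ centralizer ({z} : Set T)) {k : ℕ}
    (hyk : y ^ q ^ k = 1) :
    centralizer ({z} : Set T) ≤ normalizer ((zpowers y : Subgroup T) : Set T) := by
  by_cases hy1 : y = 1
  · subst hy1
    rw [zpowers_one_eq_bot, normalizer_eq_top_iff.mpr inferInstance]
    exact le_top
  haveI : Fact q.Prime := ⟨hq⟩
  intro c hc
  have hN := share_involution hG hR hq2 (show orderOf (z : G) = 2 by rw [orderOf_coe, hz])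
    (k := k) (y := (y : G)) (by rw [← SubmonoidClass.coe_pow, hyk, OneMemClass.coe_one])
    (fun e => hy1 (Subtype.ext e))
    (congrArg Subtype.val (mem_centralizer_singleton_iff.mp hy)).symm
  have hcG : (c : G) ∈ normalizer ((zpowers (y : G) : Subgroup G) : Set G) := by
    rw [hN, mem_centralizer_singleton_iff]
    exact congrArg Subtype.val (mem_centralizer_singleton_iff.mp hc)
  have hmap : (zpowers y).map T.subtype = zpowers (y : G) := MonoidHom.map_zpowers _ y
  rw [← hmap] at hcG
  rw [mem_normalizer_iff]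
  intro x
  have := mem_normalizer_iff.mp hcG (x : G)
  constructor
  · intro hx
    obtain ⟨w, hw, hwe⟩ := this.mp ⟨x, hx, rfl⟩
    rwa [show c * x * c⁻¹ = w from Subtype.ext hwe.symm]
  · intro hx
    obtain ⟨w, hw, hwe⟩ := this.mpr ⟨c * x * c⁻¹, hx, rfl⟩
    rwa [show x = w from Subtype.ext hwe.symm]

theorem not_alternatingSeven {T : Subgroup G} (φ : T ≃* alternatingGroup (Fin 7)) : False := by
  have key : ∃ a b y w : alternatingGroup (Fin 7), a * a = 1 ∧ a ≠ 1 ∧ b * b = 1 ∧ b ≠ 1 ∧
      y ^ 3 = 1 ∧ y ≠ 1 ∧ a * y = y * a ∧ b * y = y * b ∧ w * a = a * w ∧ w * b ≠ b * w := by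
    refine ⟨⟨Equiv.swap 0 1 * Equiv.swap 2 3, by rw [Equiv.Perm.mem_alternatingGroup]; decide⟩, ⟨Equiv.swap 0 2 * Equiv.swap 1 3, by rw [Equiv.Perm.mem_alternatingGroup]; decide⟩,
      ⟨Equiv.swap 4 5 * Equiv.swap 5 6, by rw [Equiv.Perm.mem_alternatingGroup]; decide⟩, ⟨Equiv.swap 0 1 * Equiv.swap 4 5, by rw [Equiv.Perm.mem_alternatingGroup]; decide⟩, ?_⟩
    decide +kernel
  obtain ⟨a, b, y, w, ha, ha1, hb, hb1, hy, hy1, hay, hby, hwa, hwb⟩ := key
  haveI : Fact (Nat.Prime 3) := ⟨Nat.prime_three⟩
  let f : alternatingGroup (Fin 7) →* G := T.subtype.comp φ.symm.toMonoidHom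
  have hf : Function.Injective f := T.subtype_injective.comp φ.symm.injective
  have hne : ∀ {x : alternatingGroup (Fin 7)}, x ≠ 1 → f x ≠ 1 := fun hx h =>
    hx (hf (h.trans (map_one f).symm))
  have hy3 : f y ^ 3 ^ 1 = 1 := by rw [pow_one, ← map_pow, hy, map_one]
  have hca := share_involution hG hR (show 3 ≠ 2 by decide)
    (orderOf_eq_two (a := f a) (by rw [← map_mul, ha, map_one]) (hne ha1)) hy3 (hne hy1)
    (by rw [← map_mul, ← map_mul, hay])
  have hcb := share_involution hG hR (show 3 ≠ 2 by decide)
    (orderOf_eq_two (a := f b) (by rw [← map_mul, hb, map_one]) (hne hb1)) hy3 (hne hy1)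
    (by rw [← map_mul, ← map_mul, hby])
  have : f w ∈ centralizer ({f a} : Set G) := by
    rw [mem_centralizer_singleton_iff, ← map_mul, ← map_mul, hwa]
  rw [← hca, hcb, mem_centralizer_singleton_iff, ← map_mul, ← map_mul] at this
  exact hwb (hf this)

/-- The simple normal subgroup is a two-dimensional projective special linear group. -/
theorem exists_psl {T : Subgroup G} [T.Normal] (hne : T ≠ ⊥) (hT : IsSimpleGroup T) :
    ∃ (F : Type) (_ : Field F) (_ : Fintype F), Odd (Fintype.card F) ∧ 3 < Fintype.card F ∧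
      Nonempty (T ≃* Matrix.ProjectiveSpecialLinearGroup (Fin 2) F) := by
  classical
  haveI : Fact (Nat.Prime 2) := ⟨Nat.prime_two⟩
  obtain ⟨A, hA, hAT, h4, -⟩ := exists_ess_le hG hR hne hT
  have hns : ¬ Group.IsSolvable T :=
    not_solvable_of_subnormal hG hR (inferInstance : T.Normal).isSubnormal hne
  haveI : Group.IsPerfect T := ⟨(hT.eq_bot_or_eq_top_of_normal (commutator T)
    inferInstance).resolve_left fun hb => hns (Group.isSolvable_of_comm fun x y => by
      have : ⁅x, y⁆ ∈ commutator T := commutator_mem_commutator (mem_top x) (mem_top y)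
      rw [hb, mem_bot, commutatorElement_eq_one_iff_mul_comm] at this
      exact this)⟩
  set A0 := A.subgroupOf T with hA0
  have hA0c : Nat.card A0 = 4 := (Nat.card_congr (subgroupOfEquivOfLe hAT).toEquiv).trans h4
  obtain ⟨S, hS⟩ := (IsPGroup.of_card (n := 2) (hA0c.trans (by norm_num)) :
    IsPGroup 2 A0).exists_le_sylow
  set B := A0.subgroupOf (S : Subgroup T) with hB
  have hBc : Nat.card B = 4 := (Nat.card_congr (subgroupOfEquivOfLe hS).toEquiv).trans hA0c
  have hBsq : ∀ b ∈ B, b * b = 1 := fun b hb =>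
    Subtype.ext (Subtype.ext (hA.sq _ hb))
  have hBself : ∀ x : (S : Subgroup T), (∀ b ∈ B, x * b = b * x) → x ∈ B := fun x hx =>
    hA.self _ fun a ha => congrArg (fun v : (S : Subgroup T) => ((v : T) : G))
      (hx ⟨⟨a, hAT ha⟩, hS (show (⟨a, hAT ha⟩ : T) ∈ A0 from ha)⟩ ha)
  have hdih : ∃ n : ℕ, 2 ≤ n ∧ Nonempty ((S : Subgroup T) ≃* DihedralGroup n) := by
    by_cases hS4 : Nat.card (S : Subgroup T) = 4
    · refine ⟨2, le_rfl, ?_⟩
      have hBtop : B = ⊤ := eq_top_of_card_eq B (hBc.trans hS4.symm)
      haveI : Nontrivial (S : Subgroup T) := Finite.one_lt_card_iff_nontrivial.mp (by omega)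
      haveI : IsKleinFour (S : Subgroup T) := ⟨hS4, by
        refine (Nat.dvd_prime Nat.prime_two).mp ?_ |>.resolve_left fun h => ?_
        · exact Monoid.exponent_dvd_of_forall_pow_eq_one fun x => by
            rw [pow_two]; exact hBsq x (hBtop ▸ mem_top x)
        · exact not_subsingleton (S : Subgroup T) (Monoid.exp_eq_one_iff.mp h)⟩
      exact IsKleinFour.nonempty_mulEquiv
    · obtain ⟨u, hu, huc⟩ : ∃ u ∈ B, u ∉ center (S : Subgroup T) := by
        by_contra hall
        push Not at hall
        have hBtop : B = ⊤ := eq_top_iff.mpr fun x _ =>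
          hBself x fun b hb => mem_center_iff.mp (hall b hb) x
        rw [hBtop, card_top] at hBc
        exact hS4 hBc
      haveI : Group.IsNilpotent (S : Subgroup T) := S.isPGroup'.isNilpotent
      have hcne : Nontrivial (center (S : Subgroup T)) := by
        haveI : Nontrivial (S : Subgroup T) := by
          refine ⟨⟨u, 1, fun h => huc (h ▸ one_mem _)⟩⟩
        exact S.isPGroup'.center_nontrivial
      obtain ⟨⟨z, hzc⟩, hz⟩ := exists_ne (1 : center (S : Subgroup T))
      have hz1 : z ≠ 1 := fun h => hz (Subtype.ext h)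
      have hzB : z ∈ B := hBself z fun b _ => (mem_center_iff.mp hzc b).symm
      have hu1 : u ≠ 1 := fun h => huc (h ▸ one_mem _)
      have huz : u ≠ z := fun h => huc (h ▸ hzc)
      have hB4 : ∀ b ∈ B, b = 1 ∨ b = u ∨ b = z ∨ b = u * z := by
        intro b hb
        have hsub : ({1, u, z, u * z} : Set (S : Subgroup T)) ⊆ B := by
          intro v hv
          simp only [Set.mem_insert_iff, Set.mem_singleton_iff] at hv
          rcases hv with rfl | rfl | rfl | rfl
          exacts [one_mem B, hu, hzB, mul_mem hu hzB]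
        have huz1 : u * z ≠ 1 := fun h => huz (by
          rw [← mul_one u, ← hBsq z hzB, ← mul_assoc, h, one_mul])
        have hc : ({1, u, z, u * z} : Set (S : Subgroup T)).ncard = 4 := by
          rw [Set.ncard_insert_of_notMem, Set.ncard_insert_of_notMem, Set.ncard_pair]
          · exact fun h => hu1 (right_eq_mul.mp h)
          · simp only [Set.mem_insert_iff, Set.mem_singleton_iff, not_or]
            exact ⟨huz, fun h => hz1 (left_eq_mul.mp h)⟩
          · simp only [Set.mem_insert_iff, Set.mem_singleton_iff, not_or]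
            exact ⟨hu1.symm, hz1.symm, huz1.symm⟩
        have he := Set.eq_of_subset_of_ncard_le hsub (by
          rw [hc, ← Nat.card_coe_set_eq]; exact hBc.le) (Set.toFinite _)
        have : b ∈ ({1, u, z, u * z} : Set (S : Subgroup T)) := by
          rw [he]; exact hb
        simpa using this
      have hC : centralizer ({u} : Set (S : Subgroup T)) = B := by
        ext x
        rw [mem_centralizer_singleton_iff]
        constructor
        · intro hx
          refine hBself x fun b hb => ?_
          have hxz : x * z = z * x := mem_center_iff.mp hzc x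
          rcases hB4 b hb with rfl | rfl | rfl | rfl
          · simp
          · exact hx
          · exact hxz
          · exact (show Commute x u from hx).mul_right hxz
        · intro hx
          rcases hB4 x hx with rfl | rfl | rfl | rfl
          · simp
          · rfl
          · exact (mem_center_iff.mp hzc u).symm
          · rw [mul_assoc, (mem_center_iff.mp hzc u).symm, ← mul_assoc]
      rcases S3224.result S.isPGroup' u (orderOf_eq_two (hBsq u hu) hu1) (by rw [hC, hBc]) with
        ⟨n, ⟨e⟩⟩ | hq | h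
      · refine ⟨n, ?_, ⟨e⟩⟩
        have h1 := Nat.card_congr e.toEquiv
        have h2 : 4 ≤ Nat.card (S : Subgroup T) := hBc ▸ B.card_le_card_group
        by_contra hlt
        interval_cases n
        · rw [DihedralGroup.nat_card] at h1; omega
        · rw [DihedralGroup.nat_card] at h1; omega
      · exact (not_quasidihedral S hq fun z hz q hq hq2 y hy k hk =>
          normalizer_zpowers_subgroup hG hR hz hq hq2 hy hk).elim
      · exact absurd h hS4
  obtain ⟨n, hn, he⟩ := hdih
  have hO : Cfsg.oddCore T = ⊥ := by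
    refine (hT.eq_bot_or_eq_top_of_normal _ inferInstance).resolve_right fun ht => ?_
    have := Cores.odd_card_oddCore (G := T)
    rw [ht, card_top] at this
    exact hns (S0205.result this)
  let e0 : T ≃* T ⧸ Cfsg.oddCore T :=
    ((QuotientGroup.quotientMulEquivOfEq hO).trans QuotientGroup.quotientBot).symm
  rcases S0483.result S n hn he with ⟨F, i1, i2, ho, hlt, ⟨e⟩⟩ | ⟨⟨e⟩⟩
  · exact ⟨F, i1, i2, ho, hlt, ⟨e0.trans e⟩⟩
  · exact (not_alternatingSeven hG hR (e0.trans e)).elim

end Cfsg.Agent.H61.MaxNorm
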